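import Cfsg.Agent.C3F.Bas

set_option autoImplicit false
set_option linter.unusedSectionVars false

namespace Cfsg.Agent.C3F

open C3X FK Subgroup
open RFS (Au)
open SR3 (nm ce St cj)
open scoped commutatorElement

variable {G : Type*} [Group G] [Finite G] {u : SS →* G} {X : Subgroup GV} {f σ σ' : SS → SS}

namespace Ab

attribute [local simp] mul_v mul_a mul_b mul_c inv_v inv_a inv_b inv_c one_v one_a one_b one_c pf

theorem fx {d z : SS} (hz : z ∈ sJ) (h : d * z = z * d) : pe d.a d.b d.c z.v = z.v := by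
  rw [eq_jv hz, mul_jv] at h
  exact jv_inj (mul_right_cancel h)

theorem fixA : ∀ a b c x2 x4 x5 : F, (b ≠ 0 ∨ (a = 0 ∧ c ≠ 0)) → 2 * c * x2 + 2 * a * c * x4 + c * c * x5 = 0 →
    b * x2 + (a * b + c) * x4 + b * c * x5 = 0 → a * x4 + c * x5 = 0 → 2 * b * x4 + b * b * x5 = 0 →
    b * x5 = 0 → x2 = 0 ∧ x4 = 0 ∧ x5 = 0 := by decide +kernel

theorem fixB : ∀ a c x1 x3 x4 : F, a ≠ 0 → 2 * a * x1 + a * a * x3 + 2 * a * c * x4 = 0 →
    a * x3 + c * x4 = 0 → a * x4 = 0 → x1 = 0 ∧ x3 = 0 ∧ x4 = 0 := by decide +kernel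

theorem card_le {D : Subgroup SS} (i j : Fin 6)
    (h : ∀ z ∈ D, z ∈ sJ → z.v 0 = 0 → z.v i = 0 → z.v j = 0 → z.v = 0) : Nat.card ↥(D ⊓ sJ) ≤ 27 := by
  have k : ∀ x y : SS, x ∈ sJ → y ∈ sJ → (x * y⁻¹).v = x.v - y.v := fun x y hx hy => by
    rw [eq_jv hx, eq_jv hy, jv_inv, jv_mul, sub_eq_add_neg]; rfl
  refine (Nat.card_le_card_of_injective (fun x : ↥(D ⊓ sJ) => (x.1.v 0, x.1.v i, x.1.v j))
    fun x y e => ?_).trans (by simp)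
  simp only [Prod.mk.injEq] at e
  have := h _ (mul_mem x.2.1 (inv_mem y.2.1)) (mul_mem x.2.2 (inv_mem y.2.2))
  rw [k _ _ x.2.2 y.2.2] at this
  refine Subtype.ext ?_
  rw [eq_jv x.2.2, eq_jv y.2.2, sub_eq_zero.1 (this (sub_eq_zero.2 e.1) (sub_eq_zero.2 e.2.1)
    (sub_eq_zero.2 e.2.2))]

theorem fix27 {D : Subgroup SS} (h : ∀ x ∈ D, ∀ y ∈ D, x * y = y * x) (hn : ¬ D ≤ sJ) :
    Nat.card ↥(D ⊓ sJ) ≤ 27 := by
  obtain ⟨d, hd, hd'⟩ := SetLike.not_le_iff_exists.1 hn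
  by_cases c : d.b ≠ 0 ∨ (d.a = 0 ∧ d.c ≠ 0)
  · refine card_le 1 3 fun z hz hz' e0 e1 e3 => ?_
    have k := fx hz' (h d hd z hz)
    have k0 := congrFun k 0
    have k1 := congrFun k 1
    have k2 := congrFun k 2
    have k3 := congrFun k 3
    have k4 := congrFun k 4
    rw [pe0] at k0; rw [pe1] at k1; rw [pe2] at k2; rw [pe3] at k3; rw [pe4] at k4
    obtain ⟨m2, m4, m5⟩ := fixA d.a d.b d.c (z.v 2) (z.v 4) (z.v 5) c
      (by linear_combination k0 - 2 * d.a * e1 - d.a * d.a * e3) (by linear_combination k1 - d.a * e3)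
      (by linear_combination k2) (by linear_combination k3) (by linear_combination k4)
    exact v_ext e0 e1 m2 e3 m4 m5
  · have hb : d.b = 0 := by_contra fun e => c (.inl e)
    have ha : d.a ≠ 0 := fun e => hd' ⟨e, hb, by_contra fun e' => c (.inr ⟨e, e'⟩)⟩
    refine card_le 2 5 fun z hz hz' e0 e2 e5 => ?_
    have k := fx hz' (h d hd z hz)
    have k0 := congrFun k 0
    have k1 := congrFun k 1
    have k2 := congrFun k 2
    rw [pe0] at k0; rw [pe1, hb] at k1; rw [pe2] at k2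
    obtain ⟨m1, m3, m4⟩ := fixB d.a d.c (z.v 1) (z.v 3) (z.v 4) ha
      (by linear_combination k0 - 2 * d.c * e2 - d.c * d.c * e5) (by linear_combination k1)
      (by linear_combination k2 - d.c * e5)
    exact v_ext e0 m1 e2 m3 m4 e5

theorem img {A : Subgroup SS} (hm : ∀ a ∈ A, ∀ b ∈ A, f (a * b) = f a * f b)
    (hi : ∀ a ∈ A, ∀ b ∈ A, f a = f b → a = b) (hc : ∀ x ∈ A, ∀ y ∈ A, x * y = y * x) :
    ∃ D : Subgroup SS, (∀ x, x ∈ D ↔ ∃ a ∈ A, f a = x) ∧ Nat.card D = Nat.card A ∧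
      ∀ x ∈ D, ∀ y ∈ D, x * y = y * x := by
  refine ⟨(MonoidHom.mk' (fun a : A => f a) fun a b => hm _ a.2 _ b.2).range,
    fun x => ⟨fun ⟨a, e⟩ => ⟨a, a.2, e⟩, fun ⟨a, ha, e⟩ => ⟨⟨a, ha⟩, e⟩⟩,
    (Nat.card_congr (MonoidHom.ofInjective fun a b e => Subtype.ext (hi _ a.2 _ b.2 e)).toEquiv).symm, ?_⟩
  rintro _ ⟨a, rfl⟩ _ ⟨b, rfl⟩
  exact (hm _ a.2 _ b.2).symm.trans ((congrArg f (hc _ a.2 _ b.2)).trans (hm _ b.2 _ a.2))

/-- the preimage of the centre -/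
def sZ : Subgroup SS where
  carrier := {s | s.a = 0 ∧ s.b = 0}
  one_mem' := by simp
  mul_mem' := fun ⟨h0, h1⟩ ⟨k0, k1⟩ => by simp [h0, h1, k0, k1]
  inv_mem' := fun ⟨h0, h1⟩ => by simp [h0, h1]

theorem mem_W {d z : SS} (hz : z ∈ sJ) (ha : d.a = 0) (hb : d.b = 0) (hc : d.c = 1) (h : d * z = z * d) :
    z ∈ sW := by
  have k := fx hz h
  have k0 := congrFun k 0
  have k1 := congrFun k 1
  have k2 := congrFun k 2
  rw [pe0, ha, hc] at k0; rw [pe1, ha, hb, hc] at k1; rw [pe2, ha, hc] at k2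
  exact ⟨hz.1, hz.2.1, hz.2.2, by linear_combination 2 * k0 - 2 * k2 - z.v 2 * three,
    by linear_combination k1, by linear_combination k2⟩

/-- commuting elements of `sR` -/
theorem cm {x y : SS} (hx : x ∈ sR) (hy : y ∈ sR) (h : x * y = y * x) : x.c * y.v 2 = y.c * x.v 2 ∧
    x.b * y.v 2 + x.c * y.v 4 = y.b * x.v 2 + y.c * x.v 4 ∧ x.b * y.v 4 = y.b * x.v 4 := by
  have k : x.v + pe x.a x.b x.c y.v = y.v + pe y.a y.b y.c x.v := congrArg SS.v h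
  have k0 := congrFun k 0
  have k1 := congrFun k 1
  have k3 := congrFun k 3
  rw [Pi.add_apply, Pi.add_apply] at k0 k1 k3
  rw [pe0, pe0, hx.1, hy.1, hx.2, hy.2] at k0
  rw [pe1, pe1, hx.1, hy.1, hx.2, hy.2] at k1
  rw [pe3, pe3, hx.2, hy.2] at k3
  exact ⟨by linear_combination 2 * k0 - (x.c * y.v 2 - y.c * x.v 2) * three, by linear_combination k1,
    by linear_combination 2 * k3 - (x.b * y.v 4 - y.b * x.v 4) * three⟩

theorem W_le_K (k : F) : sW ≤ sK k := fun _ ⟨h0, h1, h2, h3, h4, h5⟩ =>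
  ⟨h0, h5, by rw [h3, h2, mul_zero], by rw [h4, h1, mul_zero]⟩

theorem pv_mem (b c : F) : pv 0 b c ∈ sK 0 := ⟨rfl, rfl, (zero_mul _).symm, (zero_mul _).symm⟩

end Ab

open Ab

/-- `sJ` is the only abelian subgroup of its order -/
theorem uJ {D : Subgroup SS} (h : ∀ x ∈ D, ∀ y ∈ D, x * y = y * x) (hc : 729 ≤ Nat.card D) : D = sJ := by
  by_cases hn : D ≤ sJ
  · exact eq_of_le_of_card_ge hn (card_sJ ▸ hc)
  have h1 := fix27 h hn
  rw [card_ac] at hc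
  rcases card_ab h with e | e | e <;> rw [e] at hc <;> omega

theorem wJ (hu : Function.Injective u) {P : Subgroup SS} (hP : sJ ≤ P) (hf : In u P f) : ∀ j ∈ sJ, f j ∈ sJ := by
  obtain ⟨g, hg⟩ := hf
  obtain ⟨D, h1, h2, h3⟩ := img (f := f) (A := sJ) (fun a ha b hb => hu (by
      rw [map_mul, ← hg a (hP ha), ← hg b (hP hb), ← hg _ (hP (mul_mem ha hb)), map_mul]; group))
    (fun a ha b hb e => hu (mul_left_cancel (mul_right_cancel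
      ((hg a (hP ha)).trans (e ▸ (hg b (hP hb)).symm)))))
    fun _ hx _ hy => comm_J hx hy
  exact fun j hj => uJ h3 (by rw [h2, card_sJ]) ▸ (h1 _).2 ⟨j, hj, rfl⟩

theorem chr (h : Au ⊤ f) : (∀ s ∈ sJ, f s ∈ sJ) ∧ (∀ s ∈ sL, f s ∈ sL) ∧ ∀ s ∈ sW, f s ∈ sW := by
  obtain ⟨D, h1, h2, h3⟩ := img (f := f) (A := sJ) (fun a _ b _ => h.mul a trivial b trivial)
    (fun a _ b _ => h.inj a trivial b trivial) fun _ hx _ hy => comm_J hx hy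
  have hJ : ∀ s ∈ sJ, f s ∈ sJ := fun j hj => uJ h3 (by rw [h2, card_sJ]) ▸ (h1 _).2 ⟨j, hj, rfl⟩
  have hZ : ∀ s ∈ sZ, f s ∈ sZ := by
    refine h.cz (D₁ := ⊤) (D₂ := ⊤) (D₃ := sJ) le_rfl le_rfl h.mem h.mem (fun a ha _ => hJ a ha) fun a =>
      ⟨fun ha => ⟨trivial, fun b _ => ?_⟩, fun ha => ⟨?_, ?_⟩⟩
    · simp [mem_sJ, commutatorElement_def, mul_a, mul_b, mul_c, inv_a, inv_b, inv_c, ha.1, ha.2]
    · have := (ha.2 (pv 0 1 0) trivial).2.2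
      simp only [commutatorElement_def, mul_a, mul_c, inv_a, inv_b, inv_c, pv] at this
      linear_combination this
    · have := (ha.2 (pv 1 0 0) trivial).2.2
      simp only [commutatorElement_def, mul_a, mul_c, inv_a, inv_b, inv_c, pv] at this
      linear_combination -this
  refine ⟨hJ, fun s hs => cen_L.1 fun e => ?_, ?_⟩
  · obtain ⟨e, -, rfl⟩ := h.sur e trivial
    rw [← h.mul _ trivial _ trivial, ← h.mul _ trivial _ trivial, cen_L.2 hs]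
  · refine h.cz (D₁ := sJ) (D₂ := sZ) (D₃ := ⊥) le_top le_top hJ hZ
      (fun a ha _ => by rw [mem_bot.1 ha, h.one]; exact one_mem _) fun a =>
      ⟨fun ha => ⟨⟨ha.1, ha.2.1, ha.2.2.1⟩, fun b hb =>
        commutatorElement_eq_one_iff_mul_comm.2 (comm_W ha hb.1)⟩, fun ha => ?_⟩
    exact mem_W (d := pv 0 0 1) ha.1 rfl rfl rfl
      (commutatorElement_eq_one_iff_mul_comm.1 (ha.2 (pv 0 0 1) ⟨rfl, rfl⟩)).symm

theorem K_of {D : Subgroup SS} (h : ∀ x ∈ D, ∀ y ∈ D, x * y = y * x) (h3 : ∀ x ∈ D, x ^ 3 = 1) (o : OnA D) :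
    ∃ k, D ≤ sK k := by
  obtain ⟨d1, m1, b1, c1⟩ := o.sur 1 0
  obtain ⟨d2, m2, b2, c2⟩ := o.sur 0 1
  have e1 : d1.v 5 = 0 := by
    have k : (d1 * d1 * d1).v 3 = 0 := by
      rw [← pow_three', h3 d1 m1]; rfl
    simp only [mul_v, mul_a, mul_b, mul_c, Pi.add_apply, ← pe_apply, pe3, b1] at k
    linear_combination 2 * k - (2 * d1.v 3 + 4 * d1.v 4 + 3 * d1.v 5) * three
  have hR : ∀ d ∈ D, d ∈ sR := fun d hd => ⟨o.a d hd, by
    have k : (d * d1).v 4 = (d1 * d).v 4 := by rw [h d hd d1 m1]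
    simp only [mul_v, Pi.add_apply, ← pe_apply, pe4, b1, e1] at k
    linear_combination -k⟩
  have e2 := (cm (hR _ m1) (hR _ m2) (h _ m1 _ m2)).2.1
  rw [b1, c1, b2, c2] at e2
  refine ⟨d1.v 4, fun d hd => ⟨(hR d hd).1, (hR d hd).2, ?_, ?_⟩⟩
  · have k := (cm (hR _ hd) (hR _ m2) (h _ hd _ m2)).1
    rw [c2] at k
    linear_combination d.c * e2 - k
  · have k := (cm (hR _ hd) (hR _ m1) (h _ hd _ m1)).2.2
    rw [b1] at k
    linear_combination -k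

theorem ab5 {D : Subgroup SS} (hE : D ≤ sE) (h : ∀ x ∈ D, ∀ y ∈ D, x * y = y * x) (h3 : ∀ x ∈ D, x ^ 3 = 1)
    (hc : Nat.card D = 243) : D = sH ∨ ∃ k, D = sK k := by
  by_cases hn : D ≤ sJ
  · exact .inl (eq_of_le_of_card_ge (fun d hd => ⟨(hn hd).1, (hn hd).2.1, (hn hd).2.2, hE hd⟩)
      (by rw [hc, card_sH]))
  have h1 := fix27 h hn
  have h2 := card_ac D
  rw [hc] at h2
  have h9 : Nat.card (D.map ac) = 9 := by
    rcases card_ab h with e | e | e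
    · rw [e] at h2; omega
    · rw [e] at h2; omega
    · exact e
  obtain ⟨d0, m0, a0, b0, c0⟩ := has_z h9
  have hW : D ⊓ sJ = sW := eq_of_le_of_card_ge (fun z hz => mem_W hz.2 a0 b0 c0 (h _ m0 _ hz.1))
    (by rw [h9] at h2; rw [card_sW]; omega)
  have ha : ∀ d ∈ D, d.a = 0 := fun d hd => by
    have m : jv ![0, 0, 0, 1, 0, 0] ∈ D ⊓ sJ := hW ▸ ⟨rfl, rfl, rfl, rfl, rfl, rfl⟩
    have k := congrFun (fx m.2 (h _ hd _ m.1)) 1
    rw [pe1] at k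
    simpa [jv] using k
  have hA : D.map ac = A2 := by
    refine eq_of_le_of_card_ge ?_ ?_
    · rintro _ ⟨d, hd, rfl⟩
      exact ⟨d.b, d.c, by rw [ac_apply, ha d hd]⟩
    · rw [h9]
      exact (Nat.card_le_card_of_surjective (fun x : F × F => (⟨pe 0 x.1 x.2, x.1, x.2, rfl⟩ : A2))
        fun ⟨_, b, c, e⟩ => ⟨(b, c), Subtype.ext e.symm⟩).trans (by simp)
  obtain ⟨k, hk⟩ := K_of h h3 ⟨ha, fun b c => by
    obtain ⟨d, hd, e⟩ : pe 0 b c ∈ D.map ac := hA ▸ ⟨b, c, rfl⟩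
    exact ⟨d, hd, (pe_inj e).2⟩⟩
  exact .inr ⟨k, eq_of_le_of_card_ge hk (by rw [hc, card_sK])⟩

theorem au_E (h : Au sE f) : (∀ s ∈ sL, f s ∈ sL) ∧ (∀ s ∈ sW, f s ∈ sW) ∧ (∀ s ∈ sR, f s ∈ sR) ∧
    ((∀ s ∈ sH, f s ∈ sH) ∨ ∃ k, (∀ s ∈ sH, f s ∈ sK k) ∧ ∀ t ∈ sK k, ∃ s ∈ sH, f s = t) := by
  have key : ∀ A : Subgroup SS, A ≤ sR → Nat.card A = 243 → (∀ x ∈ A, ∀ y ∈ A, x * y = y * x) →
      ∃ D : Subgroup SS, (∀ x, x ∈ D ↔ ∃ a ∈ A, f a = x) ∧ (D = sH ∨ ∃ k, D = sK k) := fun A l c m => by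
    have l' : A ≤ sE := fun a ha => (l ha).2
    obtain ⟨D, h1, h2, h3⟩ := img (f := f) (fun a ha b hb => h.mul a (l' ha) b (l' hb))
      (fun a ha b hb => h.inj a (l' ha) b (l' hb)) m
    refine ⟨D, h1, ab5 (fun x hx => ?_) h3 (fun x hx => ?_) (h2.trans c)⟩
    all_goals obtain ⟨a, ha, rfl⟩ := (h1 x).1 hx
    · exact h.mem a (l' ha)
    · rw [pow_three', ← h.mul _ (l' ha) _ (l' ha), ← h.mul _ (l' (mul_mem ha ha)) _ (l' ha), ← pow_three',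
        cube_R (l ha), h.one]
  obtain ⟨D, d1, d2⟩ := key sH (fun s hs => ⟨hs.1, hs.2.2.2⟩) card_sH fun x hx y hy =>
    comm_J ⟨hx.1, hx.2.1, hx.2.2.1⟩ ⟨hy.1, hy.2.1, hy.2.2.1⟩
  obtain ⟨D', d1', d2'⟩ := key (sK 0) (fun s hs => ⟨hs.1, hs.2.1⟩) (card_sK 0) fun x hx y hy => comm_K hx hy
  have ne : D ≠ D' := fun e => by
    have m : jv ![0, 0, 1, 0, 0, 0] ∈ sH := ⟨rfl, rfl, rfl, rfl⟩
    obtain ⟨a, ha, e'⟩ := (d1' _).1 (e ▸ (d1 _).2 ⟨_, m, rfl⟩)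
    rw [h.inj a ha.2.1 _ m.2.2.2 e'] at ha
    exact absurd ha.2.2.1 (by decide)
  have lR : ∀ B : Subgroup SS, (B = sH ∨ ∃ k, B = sK k) → B ≤ sR := by
    rintro _ (rfl | ⟨k, rfl⟩) s hs
    exacts [⟨hs.1, hs.2.2.2⟩, ⟨hs.1, hs.2.1⟩]
  have HK : ∀ k s, s ∈ sH → s ∈ sK k → s ∈ sW := fun k s h1 h2 =>
    ⟨h1.1, h1.2.1, h1.2.2.1, by rw [h2.2.2.1, h1.2.2.1, mul_zero], by rw [h2.2.2.2, h1.2.1, mul_zero], h1.2.2.2⟩
  refine ⟨fun s hs => cen_E.1 fun e he => ?_, fun s hs => ?_, fun s hs => ?_, ?_⟩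
  · obtain ⟨e', he', rfl⟩ := h.sur e he
    have m : s ∈ sE := hs.2.2.2.2.2.2.2
    rw [← h.mul _ m _ he', ← h.mul _ he' _ m, cen_E.2 hs e' he']
  · have m1 := (d1 _).2 ⟨s, ⟨hs.1, hs.2.1, hs.2.2.1, hs.2.2.2.2.2⟩, rfl⟩
    have m2 := (d1' _).2 ⟨s, W_le_K 0 hs, rfl⟩
    rcases d2 with rfl | ⟨k, rfl⟩ <;> rcases d2' with rfl | ⟨l, rfl⟩
    · exact absurd rfl ne
    · exact HK l _ m1 m2
    · exact HK k _ m2 m1
    · have n : k - l ≠ 0 := fun e => ne (by rw [sub_eq_zero.1 e])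
      refine HK k _ ⟨m1.1, (mul_eq_zero.1 ?_).resolve_left n, (mul_eq_zero.1 ?_).resolve_left n, m1.2.1⟩ m1
      · linear_combination m2.2.2.2 - m1.2.2.2
      · linear_combination m2.2.2.1 - m1.2.2.1
  · have m : jv s.v ∈ sH := ⟨rfl, rfl, rfl, hs.2⟩
    rw [jv_pv s, hs.1, h.mul _ m.2.2.2 _ (pv_mem _ _).2.1]
    exact mul_mem (lR D d2 ((d1 _).2 ⟨_, m, rfl⟩)) (lR D' d2' ((d1' _).2 ⟨_, pv_mem _ _, rfl⟩))
  · rcases d2 with rfl | ⟨k, rfl⟩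
    · exact .inl fun s hs => (d1 _).2 ⟨s, hs, rfl⟩
    · exact .inr ⟨k, fun s hs => (d1 _).2 ⟨s, hs, rfl⟩, fun t ht => (d1 t).1 ht⟩

end Cfsg.Agent.C3F
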