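import Cfsg.Agent.C3F.Defs
import Cfsg.Agent.H91.Normal
import Cfsg.Agent.H92.GroupFS

set_option autoImplicit false
set_option linter.unusedSectionVars false

namespace Cfsg.Agent.C3F

open C3X FK Subgroup
open RFS (Au)
open SR3 (nm ce St cj)
open scoped commutatorElement

variable {H G G' : Type*} [Group H] [Group G] [Group G'] [Finite H] [Finite G] {p : ℕ} [Fact p.Prime]
  {u : H →* G} {u' : H →* G'} {Q : Subgroup H}

theorem Alp.M_zp {a b : H} {g : G} (hg : g * u a * g⁻¹ = u b) :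
    H91.M (groupFusionSystem u.range) (zpowers (u a)) fun x => g * x * g⁻¹ :=
  H91.M_group_iff.2 ⟨zpowers_le.2 ⟨a, rfl⟩, by
    rintro _ ⟨n, rfl⟩
    exact ⟨b ^ n, by rw [map_zpow, ← hg, conj_zpow]⟩, g, fun _ _ => rfl⟩

theorem uniq_of (h : Sat p u) (h0 : ∀ f, Fa u ⊤ f → In u' ⊤ f)
    (hE : ∀ E L, Pr p u E L → ∀ f, Fa u E f → In u' E f) {P : Subgroup H} {f : H → H} (hf : In u P f) :
    In u' P f := by
  obtain ⟨g, hg⟩ := hf
  have hM : H91.M (groupFusionSystem u.range) (P.map u) fun x => g * x * g⁻¹ :=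
    H91.M_group_iff.2 ⟨map_le_range u P, by
      rintro _ ⟨a, ha, rfl⟩
      exact ⟨_, (hg a ha).symm⟩, g, fun _ _ => rfl⟩
  obtain ⟨g', e⟩ := H91.alperin_induction h.pg_range h.sat
    (C := fun F => ∃ g' : G', ∀ a ∈ P, ∀ b, F (u a) = u b → g' * u' a * g'⁻¹ = u' b)
    (fun F hF => ⟨1, fun a ha b e => by
      rw [hF _ ⟨a, ha, rfl⟩] at e
      rw [h.inj e]; group⟩)
    (fun F F' R α _ ⟨g', e⟩ hR hα h1 h2 => by
      obtain ⟨A, rfl, hA⟩ : ∃ A : Subgroup H, R = A.map u ∧ ∀ f, Fa u A f → In u' A f := by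
        rcases hR with rfl | hR
        · exact ⟨⊤, MonoidHom.range_eq_map u, h0⟩
        · exact ⟨R.comap u, (map_comap_eq_self hR.1.1).symm, hE _ _ (h.pr hR)⟩
      obtain ⟨x, hx, rfl⟩ := (SR3.fus_mem_aut (map_le_range u A)).1 hα
      obtain ⟨φ, hφ', eφ⟩ := Fa.of_nm h.inj hx
      obtain ⟨x', ex⟩ := hA φ hφ'
      refine ⟨x' * g', fun a ha b eb => ?_⟩
      have m := h1 _ ⟨a, ha, rfl⟩
      rw [h2 _ ⟨a, ha, rfl⟩, H91.efn_cjAut _ _ _ m] at eb
      obtain ⟨c, hc, ec⟩ := m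
      rw [← ec, eφ c hc] at eb
      rw [← h.inj eb, ← ex c hc, ← e a ha c ec.symm]
      group) hM
  exact ⟨g', fun a ha => e a ha _ (hg a ha)⟩

theorem normal_of (h : Sat p u) (h0 : ∀ f, Fa u ⊤ f → ∀ q ∈ Q, f q ∈ Q)
    (hE : ∀ E : Subgroup H, (groupFusionSystem u.range).IsEssential p (E.map u) →
      Q ≤ E ∧ ∀ f, Fa u E f → ∀ q ∈ Q, f q ∈ Q) : (groupFusionSystem u.range).IsNormal (Q.map u) := by
  refine H91.normal_of_essential h.pg_range h.sat (map_le_range u Q) fun R hR => ?_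
  obtain ⟨A, rfl, hQ, hA⟩ : ∃ A : Subgroup H, R = A.map u ∧ Q ≤ A ∧ ∀ f, Fa u A f → ∀ q ∈ Q, f q ∈ Q := by
    rcases hR with rfl | hR
    · exact ⟨⊤, MonoidHom.range_eq_map u, le_top, h0⟩
    · have e := map_comap_eq_self hR.1.1
      exact ⟨R.comap u, e.symm, hE _ (e.symm ▸ hR)⟩
  refine ⟨map_mono hQ, fun α hα => ?_⟩
  have hM := ((H91.mem_autGroup_iff (map_le_range u A)).1 hα).restrict (map_mono hQ)
  refine hM.homOn.im_eq_self hM.injOn ?_
  obtain ⟨x, hx, rfl⟩ := (SR3.fus_mem_aut (map_le_range u A)).1 hα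
  obtain ⟨φ, hφ, eφ⟩ := Fa.of_nm h.inj hx
  rintro _ ⟨q, hq, rfl⟩
  rw [H91.efn_cjAut _ _ _ (mem_map_of_mem u (hQ hq)), eφ q (hQ hq)]
  exact mem_map_of_mem u (hA φ hφ q hq)

theorem sc_of_normal (hu : Function.Injective u) (h : (groupFusionSystem u.range).IsNormal (Q.map u)) {q s : H}
    (hq : q ∈ Q) (c : IsConj (u q) (u s)) : s ∈ Q := by
  obtain ⟨g, hg⟩ := isConj_iff.1 c
  have := (H91.stronglyClosed_iff.1 (H91.stronglyClosed_of_normal h)).2 _ _ (Alp.M_zp hg) _ (mem_zpowers _)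
    (mem_map_of_mem u hq)
  rwa [hg, mem_map_iff_mem hu] at this

theorem pr_of_ess (h : Sat p u) {E : Subgroup H} (hE : (groupFusionSystem u.range).IsEssential p (E.map u)) :
    Pr p u E (nm (E.map u)) := by
  have := h.pr hE
  rwa [comap_map_eq_self_of_injective h.inj] at this

/-- fusion to a central element extends to the centralizer -/
theorem burn (h : Sat p u) {z v : H} (hz : ∀ s, z * s = s * z) (c : IsConj (u v) (u z)) :
    ∃ f, In u (centralizer {v}) f ∧ f v = z := by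
  classical
  obtain ⟨g, hg⟩ := isConj_iff.1 c
  have hn : u.range ≤ normalizer (zpowers (u z) : Set G) := by
    refine le_trans ?_ (centralizer_le_normalizer _)
    rintro _ ⟨s, rfl⟩ _ ⟨n, rfl⟩
    exact (Commute.zpow_left (show Commute (u z) (u s) from (show Commute z s from hz s).map u) n).eq
  obtain ⟨k, hk, e, -⟩ := (Alp.M_zp hg).extend_centralizer (Q := zpowers (u z))
    (by rw [H91.im_conj, MonoidHom.map_zpowers]; exact congrArg zpowers hg)
    (H91.sat_receptive' h.pg_range h.sat (H91.isFullyNormalized_of_normal _ (zpowers_le.2 ⟨z, rfl⟩) hn))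
  obtain ⟨-, h1, x, hx⟩ := H91.M_group_iff.1 hk
  have h2 : ∀ a ∈ centralizer {v}, u a ∈ zpowers (u v) ⊔ FusionSystem.centralizerIn u.range (zpowers (u v)) :=
    fun a ha => mem_sup_right ⟨⟨a, rfl⟩, by
      rintro _ ⟨n, rfl⟩
      exact (Commute.zpow_left (show Commute (u v) (u a) from (show Commute v a from ha v rfl).map u) n).eq⟩
  have h3 : ∀ a ∈ centralizer {v}, x * u a * x⁻¹ = u (Function.invFun u (k (u a))) := fun a ha => by
    rw [Function.invFun_eq (h1 _ (h2 a ha)), hx _ (h2 a ha)]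
  refine ⟨fun a => Function.invFun u (k (u a)), ⟨x, h3⟩, ?_⟩
  show Function.invFun u (k (u v)) = z
  rw [e _ (mem_zpowers _), hg, Function.leftInverse_invFun h.inj]

theorem sat_of_syl (hp : IsPGroup p H) (hu : Function.Injective u) (ho : ¬ p ∣ u.range.index) : Sat p u := by
  exact ⟨hp, hu, H92.saturated_group ((hp.of_surjective _ u.rangeRestrict_surjective).toSylow ho)⟩

end Cfsg.Agent.C3F
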