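import Cfsg.Agent.C3F.Bas

set_option autoImplicit false
set_option linter.unusedSectionVars false

namespace Cfsg.Agent.C3F

open C3X FK Subgroup
open RFS (Au)
open SR3 (nm ce St cj)
open scoped commutatorElement

variable {G : Type*} [Group G] [Finite G] {u : SS →* G} {X : Subgroup GV} {f σ σ' : SS → SS}

namespace B093

theorem ex_j {E : Subgroup SS} (hJ : ¬ sJ ≤ E) : ∃ j ∈ sJ, j ∉ E ∧ Nm E j := by
  have : Fact (Nat.Prime 3) := ⟨Nat.prime_three⟩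
  obtain ⟨x, hx, hx', hn⟩ := exists_nm three_SS (E := E) (X := E ⊔ sJ) le_sup_left fun h => hJ (le_sup_right.trans h)
  obtain ⟨e, he, j, hj, rfl⟩ := (SR3.mem_sup_of_nm (X := E) (Y := sJ) fun s _ => SR3.mem_nm_of_conj (nm_J s)).1 hx
  refine ⟨j, hj, fun h => hx' (mul_mem he h), ?_⟩
  have := (Nm.of_mem (inv_mem he)).mul hn
  rwa [inv_mul_cancel_left] at this

theorem map_cj (s : SS) (D : Subgroup SS) : (cj s D).map u = cj (u s) (D.map u) := by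
  ext x
  constructor
  · rintro ⟨_, ⟨d, hd, rfl⟩, rfl⟩
    exact ⟨u d, ⟨d, hd, rfl⟩, by simp⟩
  · rintro ⟨_, ⟨d, hd, rfl⟩, rfl⟩
    exact ⟨_, ⟨d, hd, rfl⟩, by simp⟩

theorem star {E : Subgroup SS} {L M : Subgroup G} (h : Pr 3 u E L) (hJ : ¬ sJ ≤ E) (a : NC u E ≤ M)
    (c : ∀ g ∈ L, ∀ x, Nm E x → x ∉ E → g * u x * g⁻¹ ∈ M → g ∈ M) {y : G} (hy : y ∈ L)
    (hn : y ∈ nm ((E ⊓ sJ).map u)) : y ∈ M := by
  have : Fact (Nat.Prime 3) := ⟨Nat.prime_three⟩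
  by_contra hM
  obtain ⟨j, hj, hj', hjn⟩ := ex_j hJ
  have l : NC u E ≤ L ⊓ nm ((E ⊓ sJ).map u) := by
    refine le_inf h.le (sup_le ?_ (SR3.ce_le_nm (map_mono inf_le_left)))
    rintro _ ⟨⟨s, rfl⟩, hs⟩
    exact (nm_iff h.inj).2 fun e he => ⟨(nm_iff h.inj).1 hs e he.1, nm_J s e he.2⟩
  have k : Pr 3 u E (L ⊓ nm ((E ⊓ sJ).map u)) := ⟨h.pg, h.inj, h.ne, h.cen, inf_le_left.trans h.norm, l,
    fun e => h.syl (e.trans (Dvd.intro _ (relIndex_mul_relIndex _ _ _ l inf_le_left))), M, a,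
    fun e => hM (e ⟨hy, hn⟩), fun g hg => c g hg.1⟩
  refine hj' (k.chain1 (B := E ⊓ sJ) ⟨inf_le_left, inf_le_right⟩ (fun e he => ⟨hjn.comm he, ?_⟩)
    fun b hb => comm_J hj hb.2)
  exact SR3.comm_symm ((nm_J e).comm hj)

end B093

theorem cfg {E : Subgroup SS} {L : Subgroup G} (h : Pr 3 u E L) (hJ : ¬ sJ ≤ E) : ∃ 𝒟, Cfg E 𝒟 := by
  have : Fact (Nat.Prime 3) := ⟨Nat.prime_three⟩
  obtain ⟨M, a, b, c⟩ := h.se
  have hle : ∀ g ∈ L, cj g ((E ⊓ sJ).map u) ≤ E.map u := fun g hg =>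
    (SR3.cj_mono g (map_mono inf_le_left)).trans (SR3.cj_eq (h.norm hg)).le
  have hex : ∀ g ∈ L, ∃ D : Subgroup SS, D.map u = cj g ((E ⊓ sJ).map u) := fun g hg =>
    ⟨_, map_comap_eq_self ((hle g hg).trans (map_le_range _ _))⟩
  have cm : ∀ D : Subgroup SS, Nat.card (D.map u) = Nat.card D := fun D =>
    Nat.card_congr (D.equivMapOfInjective u h.inj).toEquiv.symm
  have tr : ∀ {D : Subgroup SS} {g : G}, D.map u = cj g ((E ⊓ sJ).map u) → ∀ x ∈ D, ∃ j ∈ sJ, u x = g * u j * g⁻¹ := by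
    intro D g e x hx
    obtain ⟨_, ⟨j, hj, rfl⟩, e'⟩ := e.le (mem_map_of_mem u hx)
    exact ⟨j, hj.2, e'.symm⟩
  have out : ∀ g ∈ L, g ∉ M → ∀ s, Nm E s → s ∉ E → g⁻¹ * u s * g ∉ M := fun g hg hM s hs hs' k =>
    hM (inv_mem_iff.1 (c g⁻¹ (inv_mem hg) s hs hs' (by rwa [inv_inv])))
  refine ⟨{D | ∃ g ∈ L, g ∉ M ∧ D.map u = cj g ((E ⊓ sJ).map u)}, hJ, h.cen, ?_, ?_, ?_, ?_, ?_, ?_, ?_, ?_⟩
  · obtain ⟨g, hg, hM⟩ := SetLike.not_le_iff_exists.1 b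
    obtain ⟨D, hD⟩ := hex g hg
    exact ⟨D, g, hg, hM, hD⟩
  · rintro D ⟨g, hg, -, e⟩
    exact (map_le_map_iff_of_injective h.inj).1 (e.le.trans (hle g hg))
  · rintro D ⟨g, hg, -, e⟩ s hs
    rw [← nm_iff h.inj, e, ← SR3.cj_nm, SR3.mem_cj]
    obtain ⟨t, ht, e'⟩ := SR3.conj_mem (inv_mem (h.norm hg)) (mem_map_of_mem u hs)
    rw [inv_inv] at e'
    rw [← e', nm_iff h.inj]
    exact fun x hx => ⟨Nm.of_mem ht x hx.1, nm_J t x hx.2⟩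
  · rintro D ⟨g, -, -, e⟩ x hx y hy
    obtain ⟨i, hi, e1⟩ := tr e x hx
    obtain ⟨j, hj, e2⟩ := tr e y hy
    apply h.inj
    rw [map_mul, map_mul, e1, e2, conj_mul, conj_mul, ← map_mul, ← map_mul, comm_J hi hj]
  · rintro D ⟨g, -, -, e⟩ x hx
    obtain ⟨i, hi, e1⟩ := tr e x hx
    apply h.inj
    rw [map_pow, e1, conj_pow, ← map_pow, cube_J hi, map_one, mul_one, mul_inv_cancel]
  · rintro D ⟨g, -, -, e⟩
    rw [← cm, e, SR3.card_cj, cm]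
  · rintro D ⟨g, hg, hM, e⟩ s hs hs' k
    rw [← nm_iff h.inj, e, ← SR3.cj_nm, SR3.mem_cj] at k
    exact out g hg hM s hs hs' (B093.star h hJ a c (mul_mem (mul_mem (inv_mem hg) (h.mem_L hs)) hg) k)
  · rintro D ⟨g, hg, hM, e⟩ s hs hs'
    have hg' : g⁻¹ * u s * g ∈ L := mul_mem (mul_mem (inv_mem hg) (h.mem_L hs)) hg
    obtain ⟨D', hD'⟩ := hex _ hg'
    refine ⟨D', ⟨_, hg', out g hg hM s hs hs', hD'⟩, ?_⟩
    rw [← cm, ← cm, map_inf _ _ _ h.inj, map_inf _ _ _ h.inj, B093.map_cj, e, hD', SR3.cj_cj,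
      show u s * g = g * (g⁻¹ * u s * g) by group, ← SR3.cj_cj, ← SR3.cj_inf, SR3.card_cj]
    congr 2
    refine le_antisymm (le_inf inf_le_right (inf_le_left.trans (map_mono inf_le_right))) (le_inf ?_ inf_le_left)
    rw [map_inf _ _ _ h.inj]
    exact inf_le_inf_right _ (by rw [← map_inf _ _ _ h.inj]; exact hle _ hg')

end Cfsg.Agent.C3F
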