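import Cfsg.Agent.C3F.Bas

set_option autoImplicit false
set_option linter.unusedSectionVars false

namespace Cfsg.Agent.C3F

open C3X FK Subgroup
open RFS (Au)
open SR3 (nm ce St cj)
open scoped commutatorElement

variable {E D : Subgroup SS} {𝒟 : Set (Subgroup SS)}

namespace B1

theorem nn_sub (g : GV) (v w : V) : nn g (v - w) = nn g v - nn g w := by
  unfold nn; rw [map_sub]; abel

theorem nn_zero (g : GV) : nn g 0 = 0 := by
  unfold nn; rw [map_zero, sub_zero]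

theorem nn_neg (g : GV) (v : V) : nn g (-v) = -nn g v := by
  unfold nn; rw [map_neg]; abel

/-- `t - 1` in coordinates -/
def nf (a b c : F) (v : V) : V := pf a b c v - v

/-- the standard basis and one more vector -/
def bs : List V := [![1, 0, 0, 0, 0, 0], ![0, 1, 0, 0, 0, 0], ![0, 0, 1, 0, 0, 0], ![0, 0, 0, 1, 0, 0],
  ![0, 0, 0, 0, 1, 0], ![0, 0, 0, 0, 0, 1], ![0, 0, 0, 1, 0, 2]]

theorem four_aux : ∀ a b c : F, ¬ (a = 0 ∧ b = 0 ∧ c = 0) →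
    ∃ x ∈ bs ++ bs.map (nf a b c), nf a b c (nf a b c x) = 0 ∧ nf a b c x ≠ 0 ∧
      ∃ y ∈ bs ++ bs.map (nf a b c), nf a b c (nf a b c y) = 0 ∧
      Function.Injective (![0, nf a b c x, -nf a b c x, nf a b c y] : Fin 4 → V) := by
  decide +kernel

/-- the kernel of `t - 1` -/
def KK (g : GV) : Subgroup SS where
  carrier := {s | s ∈ sJ ∧ nn g s.v = 0}
  one_mem' := ⟨one_mem _, nn_zero g⟩
  mul_mem' := fun {x y} hx hy => ⟨mul_mem hx.1 hy.1, by
    rw [eq_jv hx.1, eq_jv hy.1, jv_mul]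
    show nn g (x.v + y.v) = 0
    rw [nn_add, hx.2, hy.2, add_zero]⟩
  inv_mem' := fun {x} hx => ⟨inv_mem hx.1, by
    rw [eq_jv hx.1, jv_inv]
    show nn g (-x.v) = 0
    rw [nn_neg, hx.2, neg_zero]⟩

/-- the image of `t - 1` -/
def II (g : GV) : Subgroup SS where
  carrier := {s | s ∈ sJ ∧ ∃ w, nn g w = s.v}
  one_mem' := ⟨one_mem _, 0, nn_zero g⟩
  mul_mem' := fun {x y} ⟨hx, w, hw⟩ ⟨hy, w', hw'⟩ => ⟨mul_mem hx hy, w + w', by
    rw [eq_jv hx, eq_jv hy, jv_mul]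
    show nn g (w + w') = x.v + y.v
    rw [nn_add, hw, hw']⟩
  inv_mem' := fun {x} ⟨hx, w, hw⟩ => ⟨inv_mem hx, -w, by
    rw [eq_jv hx, jv_inv]
    show nn g (-w) = -x.v
    rw [nn_neg, hw]⟩

theorem card_sub (Y : Subgroup SS) (hY : Y ≤ sJ) (P : V → Prop) (e : ∀ v, jv v ∈ Y ↔ P v) :
    Nat.card Y = Nat.card {v : V // P v} := by
  refine (Nat.card_congr (Equiv.ofBijective (fun v : {v : V // P v} => (⟨jv v.1, (e _).2 v.2⟩ : Y))
    ⟨fun v w h => Subtype.ext (jv_inj (congrArg Subtype.val h)), fun y => ?_⟩)).symm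
  exact ⟨⟨y.1.v, (e _).1 (eq_jv (hY y.2) ▸ y.2)⟩, Subtype.ext (eq_jv (hY y.2)).symm⟩

theorem four {a b c : F} (h : ¬ (a = 0 ∧ b = 0 ∧ c = 0)) :
    4 ≤ Nat.card ↥(KK (pe a b c) ⊓ II (pe a b c)) := by
  obtain ⟨x, -, hx, -, y, -, hy, hi⟩ := four_aux a b c h
  have m : ∀ i, jv ((![0, nf a b c x, -nf a b c x, nf a b c y] : Fin 4 → V) i) ∈
      KK (pe a b c) ⊓ II (pe a b c) := fun i => by
    have k : ∀ z, nf a b c (nf a b c z) = 0 → jv (nf a b c z) ∈ KK (pe a b c) ⊓ II (pe a b c) :=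
      fun z hz => mem_inf.2 ⟨⟨jv_mem _, hz⟩, jv_mem _, z, rfl⟩
    fin_cases i
    · exact one_mem _
    · exact k x hx
    · have := inv_mem (k x hx)
      rwa [jv_inv] at this
    · exact k y hy
  have := Nat.card_le_card_of_injective
    (fun i : Fin 4 => (⟨_, m i⟩ : ↥(KK (pe a b c) ⊓ II (pe a b c))))
    (fun i j e => hi (jv_inj (congrArg Subtype.val e)))
  simpa using this

theorem conj_eq (d : SS) (v : V) : jv v * d * (jv v)⁻¹ = (jv (nn (ac d) v))⁻¹ * d := by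
  rw [jv_inv, jv_inv, mul_assoc, mul_jv, ← mul_assoc, jv_mul, map_neg]
  congr 2
  show v + -(pe d.a d.b d.c v) = -(pe d.a d.b d.c v - v)
  abel

theorem ac_eq_one {s : SS} : ac s = 1 ↔ s ∈ sJ :=
  ⟨fun h => pe_inj (h.trans pe_zero.symm), fun h => by
    rw [ac_apply, h.1, h.2.1, h.2.2, pe_zero]⟩

end B1

open B1

/-- an `E`-invariant subgroup of `sJ` that is not in `E` contains a normalizing element outside `E` -/
theorem ex_nm {Y : Subgroup SS} (hY : Y ≤ sJ) (hn : ∀ e ∈ E, Nm Y e) (h : ¬ Y ≤ E) :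
    ∃ j ∈ Y, j ∉ E ∧ Nm E j := by
  obtain ⟨x, hx, hx', hN⟩ := exists_nm three_SS (E := E) (X := E ⊔ Y) le_sup_left fun k => h (le_sup_right.trans k)
  obtain ⟨e, he, y, hy, rfl⟩ := (SR3.mem_sup_of_nm fun e he => SR3.mem_nm_of_conj (hn e he)).1 hx
  refine ⟨y, hy, fun k => hx' (mul_mem he k), ?_⟩
  have := (Nm.of_mem (inv_mem he)).mul hN
  rwa [inv_mul_cancel_left] at this

theorem Cfg.nm_iff (h : Cfg E 𝒟) (hD : D ∈ 𝒟) {v : V} : Nm D (jv v) ↔ jv v ∈ E := by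
  refine ⟨fun k => ?_, h.nrm D hD _⟩
  by_contra hv
  obtain ⟨j, hj, hj', hN⟩ := ex_nm (E := E) (Y := sJ ⊓ nm D) inf_le_left (fun e he y hy => by
      have he' := SR3.mem_nm_of_conj (h.nrm D hD e he)
      exact mem_inf.2 ⟨nm_J e y hy.1, mul_mem (mul_mem he' hy.2) (inv_mem he')⟩)
    fun l => hv (l (mem_inf.2 ⟨jv_mem v, SR3.mem_nm_of_conj k⟩))
  exact h.mov D hD j hN hj' fun x hx => SR3.conj_mem hj.2 hx

/-- the preimage of a subgroup under `t - 1` -/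
theorem card_pre (g : GV) (B Y : Subgroup SS) (hB : B ≤ sJ) (hY : Y ≤ sJ) (e : ∀ v, jv v ∈ Y ↔ jv (nn g v) ∈ B) :
    Nat.card Y = Nat.card {v : V // nn g v = 0} * Nat.card {v : V // jv v ∈ B ∧ ∃ w, nn g w = v} := by
  obtain ⟨w, hw⟩ : ∃ w : {v : V // jv v ∈ B ∧ ∃ w, nn g w = v} → V, ∀ u, nn g (w u) = u.1 :=
    ⟨fun u => u.2.2.choose, fun u => u.2.2.choose_spec⟩
  have k : ∀ (x : {v : V // nn g v = 0}) u, nn g (x.1 + w u) = u.1 := fun x u => by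
    rw [nn_add, x.2, hw, zero_add]
  rw [← Nat.card_prod]
  refine (Nat.card_congr (Equiv.ofBijective
    (fun x : {v : V // nn g v = 0} × {v : V // jv v ∈ B ∧ ∃ w, nn g w = v} =>
      (⟨jv (x.1.1 + w x.2), (e _).2 (by rw [k]; exact x.2.2.1)⟩ : Y)) ⟨?_, fun y => ?_⟩)).symm
  · rintro ⟨x, u⟩ ⟨x', u'⟩ h
    have h1 : x.1 + w u = x'.1 + w u' := jv_inj (congrArg Subtype.val h)
    have h2 : u = u' := Subtype.ext (by rw [← k x u, h1, k])
    subst h2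
    exact Prod.ext (Subtype.ext (add_right_cancel h1)) rfl
  · have h1 := eq_jv (hY y.2)
    have h2 : jv (nn g y.1.v) ∈ B := (e _).1 (h1 ▸ y.2)
    refine ⟨(⟨y.1.v - w ⟨_, h2, _, rfl⟩, by rw [nn_sub, hw, sub_self]⟩, ⟨_, h2, _, rfl⟩), Subtype.ext ?_⟩
    show jv (_ - _ + _) = y.1
    rw [sub_add_cancel, ← h1]

theorem Cfg.idx (h : Cfg E 𝒟) (hD : D ∈ 𝒟) : Nat.card D = 9 * Nat.card ↥(D ⊓ sJ) := by
  have c1 := card_ac D
  rcases card_ab (h.comm D hD) with c | c | c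
  · exfalso
    have hb : D.map ac = ⊥ := card_eq_one.1 c
    have hJ : D ≤ sJ := fun d hd => ac_eq_one.1 (mem_bot.1 (hb ▸ mem_map_of_mem ac hd))
    refine h.nJ fun j hj => ?_
    rw [eq_jv hj]
    refine (h.nm_iff hD).1 fun d hd => ?_
    rw [comm_J (jv_mem _) (hJ hd), mul_inv_cancel_right]
    exact hd
  · exfalso
    obtain ⟨d, hd, hd'⟩ : ∃ d ∈ D, ac d ≠ 1 := by
      by_contra k
      push Not at k
      have hb : D.map ac = ⊥ := eq_bot_iff.2 (by rintro _ ⟨d, hd, rfl⟩; exact mem_bot.2 (k d hd))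
      rw [hb, card_bot] at c
      omega
    have hz : zpowers (ac d) = D.map ac := by
      have l : zpowers (ac d) ≤ D.map ac := zpowers_le.2 (mem_map_of_mem ac hd)
      have dv := card_dvd_of_le l
      rw [c] at dv
      rcases (Nat.dvd_prime Nat.prime_three).1 dv with k | k
      · exact absurd (zpowers_eq_bot.1 (card_eq_one.1 k)) hd'
      · exact eq_of_le_of_card_ge l (by rw [c, k])
    have e : ∀ v, jv v ∈ E ⊓ sJ ↔ jv (nn (ac d) v) ∈ D ⊓ sJ := fun v => by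
      constructor
      · intro hv
        have := h.nrm D hD _ hv.1 d hd
        rw [conj_eq] at this
        exact mem_inf.2 ⟨inv_mem_iff.1 ((mul_mem_cancel_right hd).1 this), jv_mem _⟩
      · intro hv
        refine mem_inf.2 ⟨(h.nm_iff hD).1 fun x hx => ?_, jv_mem _⟩
        obtain ⟨k, hk⟩ := hz.ge (mem_map_of_mem ac hx)
        have k1 : (d ^ k)⁻¹ * x ∈ sJ := ac_eq_one.1 (by
          rw [map_mul, map_inv, map_zpow, ← hk, inv_mul_cancel])
        have k2 : jv v * d * (jv v)⁻¹ ∈ D := by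
          rw [conj_eq]; exact mul_mem (inv_mem hv.1) hd
        have k3 : jv v * x * (jv v)⁻¹ = (jv v * d * (jv v)⁻¹) ^ k * (jv v * ((d ^ k)⁻¹ * x) * (jv v)⁻¹) := by
          rw [conj_zpow]; group
        rw [k3, comm_J (jv_mem _) k1, mul_inv_cancel_right]
        exact mul_mem (zpow_mem k2 k) (mul_mem (inv_mem (zpow_mem hd k)) hx)
    have c2 := card_pre (ac d) (D ⊓ sJ) (E ⊓ sJ) inf_le_right inf_le_right e
    have l1 : D ⊓ sJ ≤ KK (ac d) := fun x hx => ⟨hx.2, by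
      have k := h.comm D hD d hd x hx.1
      rw [eq_jv hx.2, mul_jv] at k
      exact sub_eq_zero.2 (jv_inj (mul_right_cancel k))⟩
    have c3 : Nat.card (KK (ac d)) = Nat.card {v : V // nn (ac d) v = 0} :=
      card_sub (KK (ac d)) (fun _ hx => hx.1) _ fun v => ⟨fun k => k.2, fun k => ⟨jv_mem v, k⟩⟩
    have c4 : Nat.card ↥((D ⊓ sJ) ⊓ (KK (ac d) ⊓ II (ac d))) =
        Nat.card {v : V // jv v ∈ D ⊓ sJ ∧ ∃ w, nn (ac d) w = v} :=
      card_sub ((D ⊓ sJ) ⊓ (KK (ac d) ⊓ II (ac d))) (fun _ hx => hx.1.2) _ fun v => ⟨fun k => ⟨k.1, k.2.2.2⟩,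
        fun k => mem_inf.2 ⟨k.1, mem_inf.2 ⟨l1 k.1, jv_mem v, k.2⟩⟩⟩
    have c5 := SR3.card_sup_mul (X := D ⊓ sJ) (Y := KK (ac d) ⊓ II (ac d)) fun x hx =>
      SR3.mem_nm_of_conj fun y hy => by
        rw [comm_J hx.2 hy.1.1, mul_inv_cancel_right]; exact hy
    have c6 : Nat.card ↥((D ⊓ sJ) ⊔ (KK (ac d) ⊓ II (ac d))) ≤ Nat.card (KK (ac d)) :=
      card_le_of_le (sup_le l1 inf_le_left)
    have c7 : 4 ≤ Nat.card ↥(KK (ac d) ⊓ II (ac d)) := four fun k => hd' (ac_eq_one.2 k)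
    have c8 := h.card D hD
    have c9 : 0 < Nat.card ↥(D ⊓ sJ) := Nat.card_pos
    rw [← c3, ← c4, ← c8, c1, c] at c2
    have := Nat.mul_le_mul_right (Nat.card ↥((D ⊓ sJ) ⊓ (KK (ac d) ⊓ II (ac d)))) c6
    rw [c5, ← c2] at this
    have := Nat.le_of_mul_le_mul_left this c9
    omega
  · rw [c1, c, mul_comm]

end Cfsg.Agent.C3F
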