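import Cfsg.Agent.C3F.B1

set_option autoImplicit false
set_option linter.unusedSectionVars false

namespace Cfsg.Agent.C3F

open C3X FK Subgroup
open RFS (Au)
open SR3 (nm ce St cj)
open scoped commutatorElement

variable {E D : Subgroup SS} {𝒟 : Set (Subgroup SS)}

namespace B2a

theorem comm_jv (v : V) (d : SS) : ⁅jv v, d⁆ = (jv (nn (ac d) v))⁻¹ := by
  rw [commutatorElement_def, jv_inv, mul_assoc, mul_assoc, ← mul_assoc d, conj_jv, jv_mul, jv_inv,
    map_neg, nn, ac_apply]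
  congr 1
  abel

theorem fix_of_comm {d : SS} {v : V} (h : d * jv v = jv v * d) : pe d.a d.b d.c v = v :=
  jv_inj (by rw [← conj_jv, h, mul_inv_cancel_right])

/-- the preimage of `D` under `g - 1` -/
def preS (g : GV) (D : Subgroup SS) : Subgroup SS where
  carrier := {s | ∃ w, s = jv w ∧ jv (nn g w) ∈ D}
  one_mem' := ⟨0, rfl, by rw [nn, map_zero, sub_zero]; exact one_mem _⟩
  mul_mem' := by
    rintro _ _ ⟨v, rfl, h1⟩ ⟨w, rfl, h2⟩
    exact ⟨v + w, jv_mul v w, by rw [nn_add, ← jv_mul]; exact mul_mem h1 h2⟩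
  inv_mem' := by
    rintro _ ⟨v, rfl, h1⟩
    refine ⟨-v, jv_inv v, ?_⟩
    have := inv_mem h1
    rw [jv_inv] at this
    convert this using 2
    rw [nn, nn, map_neg]
    abel

theorem card_ker : Nat.card {v : V // nn (pe 0 0 1) v = 0} = 27 := by
  rw [Nat.card_eq_fintype_card, Fintype.card_subtype]
  decide +kernel

end B2a

open B2a

theorem Cfg.inj (h : Cfg E 𝒟) (hD : D ∈ 𝒟) {j d : SS} (hj : j ∈ sJ) (hn : Nm E j) (hj' : j ∉ E) (hd : d ∈ D)
    (hd' : d ∉ sJ) : ⁅j, d⁆ ∉ D := by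
  intro hc
  obtain ⟨D', hD', e⟩ := h.pair D hD j hn hj'
  have h1 := h.idx hD
  have h2 := h.idx hD'
  rw [h.card D hD] at h1
  rw [h.card D' hD'] at h2
  have h3 : D ⊓ sJ = D ⊓ cj j D := eq_of_le_of_card_ge
    (fun x hx => ⟨hx.1, SR3.mem_cj.2 (by
      rw [mul_assoc, comm_J hx.2 hj, inv_mul_cancel_left]; exact hx.1)⟩) (by omega)
  have h4 : j * d * j⁻¹ ∈ D ⊓ sJ := by
    rw [h3]
    exact ⟨by simpa [commutatorElement_def] using mul_mem hc hd, SR3.conj_mem_cj j hd⟩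
  exact hd' (by simpa [mul_assoc] using mul_mem (mul_mem (inv_mem hj) h4.2) hj)

theorem Cfg.pre (h : Cfg E 𝒟) (hD : D ∈ 𝒟) {d : SS} (hd : d ∈ D) (hd' : d ∉ sJ)
    (hc : ∀ e ∈ E, ac e * ac d = ac d * ac e) (v : V) : jv v ∈ E ↔ jv (nn (ac d) v) ∈ D := by
  refine ⟨fun hv => ?_, fun hv => ?_⟩
  · have : ⁅jv v, d⁆ ∈ D := mul_mem (h.nrm D hD _ hv d hd) (inv_mem hd)
    rwa [comm_jv, inv_mem_iff] at this
  by_contra hv'
  obtain ⟨j, ⟨w, rfl, hw⟩, h1, h2⟩ := ex_nm (E := E) (Y := preS (ac d) D)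
    (by rintro _ ⟨w, rfl, -⟩; exact jv_mem w) (by
      rintro e he _ ⟨w, rfl, hw⟩
      refine ⟨_, conj_jv e w, ?_⟩
      have := h.nrm D hD e he _ hw
      rw [conj_jv, ← ac_apply, ← nn_conj, hc e he, mul_inv_cancel_right] at this
      exact this) fun hY => hv' (hY ⟨v, rfl, hv⟩)
  exact h.inj hD (jv_mem w) h2 h1 hd hd' (by rw [comm_jv]; exact inv_mem hw)

theorem Cfg.onA (h : Cfg E 𝒟) (hD : D ∈ 𝒟) : OnA D ∧ (∀ v, jv v ∈ D → InA v) ∧ ∃ v, jv v ∈ D ∧ v 3 ≠ 0 := by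
  have h1 := h.idx hD
  have hp : 0 < Nat.card ↥(D ⊓ sJ) := Nat.card_pos
  have h9 : Nat.card (D.map ac) = 9 := by
    have := card_ac D
    rw [h1, mul_comm] at this
    exact (Nat.eq_of_mul_eq_mul_left hp this).symm
  obtain ⟨d, hd, da, db, dc⟩ := has_z h9
  have e0 : ac d = pe 0 0 1 := by rw [ac_apply, da, db, dc]
  have hA : ∀ v, jv v ∈ D → InA v := fun v hv => by
    have := fix_of_comm (h.comm D hD d hd _ hv)
    rw [da, db, dc] at this
    have a0 := congrFun this 0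
    have a1 := congrFun this 1
    have a2 := congrFun this 2
    rw [pe0] at a0
    rw [pe1] at a1
    rw [pe2] at a2
    exact ⟨by linear_combination a2 - a0 + v 2 * three, by linear_combination a1,
      by linear_combination a2⟩
  have h3 : ∃ v, jv v ∈ D ∧ v 3 ≠ 0 := by
    by_contra! hv
    have h2 := card_pre (pe 0 0 1) (D ⊓ sJ) (E ⊓ sJ) inf_le_right inf_le_right fun v => by
      have := h.pre hD hd (fun h' => by have := h'.2.2; rw [dc] at this; exact absurd this (by decide))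
        (fun e _ => by rw [e0, ac_apply, pe_mul, pe_mul]; congr 1 <;> ring) v
      rw [e0] at this
      simp only [mem_inf, jv_mem, and_true, this]
    rw [card_ker, ← h.card D hD, h1] at h2
    have h4 : Nat.card ↥(D ⊓ sJ) ≤
        Nat.card {v : V // jv v ∈ D ⊓ sJ ∧ ∃ w, nn (pe 0 0 1) w = v} := by
      refine Nat.card_le_card_of_injective (fun x => ⟨x.1.v, by rw [← eq_jv x.2.2]; exact x.2,
        ![0, 0, -x.1.v 0, 0, x.1.v 1, 0], ?_⟩) fun x y e => Subtype.ext ?_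
      · have m : jv x.1.v ∈ D := by rw [← eq_jv x.2.2]; exact x.2.1
        obtain ⟨b2, b4, b5⟩ := hA _ m
        have b3 := hv _ m
        refine v_ext ?_ ?_ ?_ ?_ ?_ ?_ <;> simp [nn, pe_apply, pf, b2, b3, b4, b5]
        linear_combination -x.1.v 0 * three
      · rw [eq_jv x.2.2, eq_jv y.2.2, Subtype.mk.inj e]
    omega
  refine ⟨?_, hA, h3⟩
  obtain ⟨v, hv, h3⟩ := h3
  have ha : ∀ x ∈ D, x.a = 0 := fun x hx => by
    have a1 := congrFun (fix_of_comm (h.comm D hD x hx _ hv)) 1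
    obtain ⟨b2, b4, b5⟩ := hA _ hv
    rw [pe1, b2, b4, b5] at a1
    exact (mul_eq_zero.1 (show x.a * v 3 = 0 by linear_combination a1)).resolve_right h3
  refine ⟨ha, fun b c => ?_⟩
  have h5 : ((D.map ac : Subgroup GV) : Set GV) = (fun p : F × F => pe 0 p.1 p.2) '' Set.univ := by
    refine Set.eq_of_subset_of_ncard_le ?_ ?_
    · rintro _ ⟨x, hx, rfl⟩
      exact ⟨(x.b, x.c), trivial, by rw [ac_apply, ha x hx]⟩
    · refine (Set.ncard_image_le Set.finite_univ).trans ?_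
      rw [Set.ncard_univ, ← Nat.card_coe_set_eq, SetLike.coe_sort_coe, h9]
      simp
  have h6 : pe 0 b c ∈ ((D.map ac : Subgroup GV) : Set GV) := by rw [h5]; exact ⟨(b, c), trivial, rfl⟩
  obtain ⟨x, hx, e⟩ := h6
  exact ⟨x, hx, (pe_inj e).2⟩

end Cfsg.Agent.C3F
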