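import Cfsg.Agent.C3F.B2a

set_option autoImplicit false
set_option linter.unusedSectionVars false

namespace Cfsg.Agent.C3F

open C3X FK Subgroup
open RFS (Au)
open SR3 (nm ce St cj)
open scoped commutatorElement

variable {E D : Subgroup SS} {𝒟 : Set (Subgroup SS)}

namespace B2b

/-- the vectors in a subgroup -/
def vs (D : Subgroup SS) : Submodule F V where
  carrier := {v | jv v ∈ D}
  zero_mem' := D.one_mem
  add_mem' := fun {v w} h k => by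
    change jv (v + w) ∈ D
    rw [← jv_mul]; exact D.mul_mem h k
  smul_mem' := fun k v h => by
    change jv (k • v) ∈ D
    rcases f3 k with rfl | rfl | rfl
    · rw [zero_smul]; exact D.one_mem
    · rwa [one_smul]
    · rw [neg_smul, one_smul, ← jv_inv]; exact D.inv_mem h

theorem mem_vs {v : V} : v ∈ vs D ↔ jv v ∈ D := Iff.rfl

theorem all_of (h0 : (![1, 0, 0, 0, 0, 0] : V) ∈ vs D) (h1 : (![0, 1, 0, 0, 0, 0] : V) ∈ vs D)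
    (h3 : (![0, 0, 0, 1, 0, 0] : V) ∈ vs D) {w : V} (hw : InA w) : w ∈ vs D := by
  have := add_mem (add_mem ((vs D).smul_mem (w 0) h0) ((vs D).smul_mem (w 1) h1)) ((vs D).smul_mem (w 3) h3)
  convert this using 1
  refine v_ext ?_ ?_ ?_ ?_ ?_ ?_ <;> simp [hw.1, hw.2.1, hw.2.2]

theorem nn_A {b c : F} {w : V} (hw : InA w) : nn (pe 0 b c) w = 0 := by
  refine v_ext ?_ ?_ ?_ ?_ ?_ ?_ <;> simp [nn, hw.1, hw.2.1, hw.2.2]

theorem nn_H (b c : F) {w : V} (hw : w 5 = 0) :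
    nn (pe 0 b c) w = ![2 * c * w 2, b * w 2 + c * w 4, 0, 2 * b * w 4, 0, 0] := by
  refine v_ext ?_ ?_ ?_ ?_ ?_ ?_ <;> simp [nn, hw]; ring

theorem preZ (h : Cfg E 𝒟) (hD : D ∈ 𝒟) (w : V) : jv w ∈ E ↔ jv (nn (pe 0 0 1) w) ∈ D := by
  obtain ⟨d, hd, e1, e2⟩ := (h.onA hD).1.sur 0 1
  have e0 := (h.onA hD).1.a d hd
  have e : ac d = pe 0 0 1 := by rw [ac_apply, e0, e1, e2]
  rw [← e]
  refine h.pre hD hd (fun k => one_ne_zero (e2.symm.trans k.2.2)) (fun x _ => ?_) w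
  rw [e, ac_apply, pe_mul, pe_mul]
  congr 1 <;> ring

theorem preA (h : Cfg E 𝒟) (hD : D ∈ 𝒟) (ha : ∀ e ∈ E, e.a = 0) {b c : F} (hb : ¬ (b = 0 ∧ c = 0)) (w : V) :
    jv w ∈ E ↔ jv (nn (pe 0 b c) w) ∈ D := by
  obtain ⟨d, hd, e1, e2⟩ := (h.onA hD).1.sur b c
  have e0 := (h.onA hD).1.a d hd
  have e : ac d = pe 0 b c := by rw [ac_apply, e0, e1, e2]
  rw [← e]
  refine h.pre hD hd (fun k => hb ⟨e1.symm.trans k.2.1, e2.symm.trans k.2.2⟩) (fun x hx => ?_) w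
  rw [e, ac_apply, pe_mul, pe_mul, ha x hx]
  congr 1 <;> ring

theorem le_H (h : Cfg E 𝒟) (hD : D ∈ 𝒟) {w : V} (hw : jv w ∈ E) : w 5 = 0 := by
  have := ((h.onA hD).2.1 _ ((preZ h hD w).1 hw)).1
  simpa [nn] using this

theorem W_le (h : Cfg E 𝒟) (hD : D ∈ 𝒟) {w : V} (hw : InA w) : jv w ∈ E := by
  rw [preZ h hD, nn_A hw]
  exact D.one_mem

theorem first (h : Cfg E 𝒟) (hD : D ∈ 𝒟) (k : ∀ w, InA w → w ∈ vs D) : E ⊓ sJ = sH := by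
  ext s
  refine ⟨fun ⟨h1, h2⟩ => ⟨h2.1, h2.2.1, h2.2.2, le_H h hD (eq_jv h2 ▸ h1)⟩, fun ⟨h0, h1, h2, h3⟩ => ?_⟩
  refine mem_inf.2 ⟨?_, h0, h1, h2⟩
  rw [eq_jv (s := s) ⟨h0, h1, h2⟩, preZ h hD, nn_H _ _ h3]
  exact k _ ⟨rfl, rfl, rfl⟩

theorem of_a (h : Cfg E 𝒟) (hD : D ∈ 𝒟) {e : SS} (he : e ∈ E) (ha : e.a ≠ 0) {w : V} (hw : InA w) : w ∈ vs D := by
  obtain ⟨-, hA, v, hv, h3⟩ := h.onA hD
  have st : ∀ u ∈ vs D, (![2 * e.a * u 1 + e.a * e.a * u 3, e.a * u 3, 0, 0, 0, 0] : V) ∈ vs D := fun u hu => by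
    have h1 : pe e.a e.b e.c u ∈ vs D := by
      rw [mem_vs, ← conj_jv]; exact h.nrm D hD e he _ hu
    have h2 := hA u hu
    convert sub_mem h1 hu using 1
    refine v_ext ?_ ?_ ?_ ?_ ?_ ?_ <;> simp [h2.1, h2.2.1, h2.2.2]; ring
  have k1 := st v hv
  have k2 := st _ k1
  have n1 : e.a * v 3 ≠ 0 := mul_ne_zero ha h3
  have n2 : 2 * e.a * (e.a * v 3) ≠ 0 := mul_ne_zero (mul_ne_zero (by decide) ha) n1
  have z0 : (![1, 0, 0, 0, 0, 0] : V) ∈ vs D := by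
    rw [← (vs D).smul_mem_iff n2]
    convert k2 using 1
    refine v_ext ?_ ?_ ?_ ?_ ?_ ?_ <;> simp
  have z1 : (![0, 1, 0, 0, 0, 0] : V) ∈ vs D := by
    rw [← (vs D).smul_mem_iff n1]
    convert sub_mem k1 ((vs D).smul_mem (2 * e.a * v 1 + e.a * e.a * v 3) z0) using 1
    refine v_ext ?_ ?_ ?_ ?_ ?_ ?_ <;> simp
  have z3 : (![0, 0, 0, 1, 0, 0] : V) ∈ vs D := by
    rw [← (vs D).smul_mem_iff h3]
    have h2 := hA v hv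
    convert sub_mem (sub_mem (mem_vs.2 hv) ((vs D).smul_mem (v 0) z0)) ((vs D).smul_mem (v 1) z1) using 1
    refine v_ext ?_ ?_ ?_ ?_ ?_ ?_ <;> simp [-Matrix.sub_cons, h2.1, h2.2.1, h2.2.2]
  exact all_of z0 z1 z3 hw

/-- some vector of `D` is outside the image of `t - 1` -/
theorem out (h : Cfg E 𝒟) (hD : D ∈ 𝒟) (ha : ∀ e ∈ E, e.a = 0) {b c : F} (hb : ¬ (b = 0 ∧ c = 0)) :
    ∃ u ∈ vs D, ∀ w, nn (pe 0 b c) w ≠ u := by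
  by_contra! k
  have h1 := card_pre (pe 0 b c) (D ⊓ sJ) (E ⊓ sJ) inf_le_right inf_le_right fun v => by
    simp only [mem_inf, jv_mem, and_true]
    exact preA h hD ha hb v
  have h2 : Nat.card {v : V // jv v ∈ D ⊓ sJ ∧ ∃ w, nn (pe 0 b c) w = v} = Nat.card ↥(D ⊓ sJ) :=
    Nat.card_congr
      { toFun := fun v => ⟨jv v.1, v.2.1⟩
        invFun := fun s => ⟨s.1.v, eq_jv s.2.2 ▸ s.2, k _ (mem_vs.2 (eq_jv s.2.2 ▸ s.2.1))⟩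
        left_inv := fun _ => rfl
        right_inv := fun s => Subtype.ext (eq_jv s.2.2).symm }
  have h3 : Nat.card sW ≤ Nat.card {v : V // nn (pe 0 b c) v = 0} :=
    Nat.card_le_card_of_injective (fun s => ⟨s.1.v, nn_A s.2.2.2.2⟩) fun s t e => Subtype.ext (by
      rw [eq_jv (s := s.1) ⟨s.2.1, s.2.2.1, s.2.2.2.1⟩, eq_jv (s := t.1) ⟨t.2.1, t.2.2.1, t.2.2.2.1⟩]
      exact congrArg jv (congrArg Subtype.val e))
  rw [h2, ← h.card D hD, h.idx hD] at h1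
  rw [card_sW, ← Nat.eq_of_mul_eq_mul_right Nat.card_pos h1] at h3
  omega

theorem dec1 : ∀ x1 x2 u0 u1 u3 : F, ¬ (x2 = 0 ∧ x1 = 0) →
    (∀ p q : F, ¬ (2 * x1 * p = u0 ∧ x2 * p + x1 * q = u1 ∧ 2 * x2 * q = u3)) →
    (∃ b c k : F, 2 * c * x1 + k * u0 = 1 ∧ b * x1 + c * x2 + k * u1 = 0 ∧ 2 * b * x2 + k * u3 = 0) ∧
    (∃ b c k : F, 2 * c * x1 + k * u0 = 0 ∧ b * x1 + c * x2 + k * u1 = 1 ∧ 2 * b * x2 + k * u3 = 0) ∧
    (∃ b c k : F, 2 * c * x1 + k * u0 = 0 ∧ b * x1 + c * x2 + k * u1 = 0 ∧ 2 * b * x2 + k * u3 = 1) := by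
  decide +kernel

theorem of_w (h : Cfg E 𝒟) (hD : D ∈ 𝒟) (ha : ∀ e ∈ E, e.a = 0) {x : V} (hx : jv x ∈ E)
    (h0 : ¬ (x 4 = 0 ∧ x 2 = 0)) {w : V} (hw : InA w) : w ∈ vs D := by
  have x5 := le_H h hD hx
  obtain ⟨u, hu, hn⟩ := out h hD ha h0
  have uA := (h.onA hD).2.1 u hu
  have st : ∀ b c k : F, (![2 * c * x 2 + k * u 0, b * x 2 + c * x 4 + k * u 1, 0, 2 * b * x 4 + k * u 3, 0, 0] : V)
      ∈ vs D := fun b c k => by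
    have h1 : nn (pe 0 b c) x ∈ vs D := by
      by_cases hb : b = 0 ∧ c = 0
      · rw [hb.1, hb.2, pe_zero, nn, gone, sub_self]; exact zero_mem _
      · exact (preA h hD ha hb x).1 hx
    rw [nn_H _ _ x5] at h1
    convert add_mem h1 ((vs D).smul_mem k hu) using 1
    refine v_ext ?_ ?_ ?_ ?_ ?_ ?_ <;> simp [uA.1, uA.2.1, uA.2.2]
  obtain ⟨⟨b, c, k, e1, e2, e3⟩, ⟨b', c', k', f1, f2, f3⟩, b'', c'', k'', g1, g2, g3⟩ :=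
    dec1 (x 2) (x 4) (u 0) (u 1) (u 3) h0 fun p q ⟨e1, e2, e3⟩ => hn ![0, 0, p, 0, q, 0] (by
      rw [nn_H _ _ rfl]
      exact v_ext e1 e2 uA.1.symm e3 uA.2.1.symm uA.2.2.symm)
  refine all_of ?_ ?_ ?_ hw
  · have := st b c k
    rwa [e1, e2, e3] at this
  · have := st b' c' k'
    rwa [f1, f2, f3] at this
  · have := st b'' c'' k''
    rwa [g1, g2, g3] at this

theorem dec2 : ∀ u0 u1 u3 : F, u0 * u3 - u1 * u1 ≠ 1 → ∃ b c p q : F, ¬ (b = 0 ∧ c = 0) ∧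
    2 * c * p = u0 ∧ b * p + c * q = u1 ∧ 2 * b * q = u3 := by
  decide +kernel

theorem dec3 : ∀ u0 u1 u3 v0 v1 v3 : F, u0 * u3 - u1 * u1 = 1 → v0 * v3 - v1 * v1 = 1 →
    (u0 + v0) * (u3 + v3) - (u1 + v1) * (u1 + v1) = 1 → (u0 - v0) * (u3 - v3) - (u1 - v1) * (u1 - v1) ≠ 1 := by
  decide +kernel

end B2b

open B2b

theorem Cfg.cases (h : Cfg E 𝒟) (hD : D ∈ 𝒟) : E ⊓ sJ = sH ∨ (E ⊓ sJ = sW ∧ (∀ e ∈ E, e.a = 0) ∧
    ∃ y : V, InA y ∧ y 0 * y 3 - y 1 * y 1 = 1 ∧ ∀ v, jv v ∈ D ↔ v = 0 ∨ v = y ∨ v = -y) := by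
  by_cases ha : ∀ e ∈ E, e.a = 0
  swap
  · push Not at ha
    obtain ⟨e, he, ha⟩ := ha
    exact .inl (first h hD fun w hw => of_a h hD he ha hw)
  by_cases hx : ∀ x, jv x ∈ E → x 4 = 0 ∧ x 2 = 0
  swap
  · simp only [not_forall] at hx
    obtain ⟨x, hx, h0⟩ := hx
    exact .inl (first h hD fun w hw => of_w h hD ha hx h0 hw)
  have hA : ∀ x, jv x ∈ E → InA x := fun x k => ⟨(hx x k).2, (hx x k).1, le_H h hD k⟩
  obtain ⟨-, dA, y, hy, h3⟩ := h.onA hD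
  have det : ∀ u ∈ vs D, u ≠ 0 → u 0 * u 3 - u 1 * u 1 = 1 := fun u hu h0 => by
    by_contra k
    obtain ⟨b, c, p, q, hb, e1, e2, e3⟩ := dec2 _ _ _ k
    have uA := dA u hu
    have e : nn (pe 0 b c) ![0, 0, p, 0, q, 0] = u := by
      rw [nn_H _ _ rfl]
      exact v_ext e1 e2 uA.1.symm e3 uA.2.1.symm uA.2.2.symm
    have := hA _ ((preA h hD ha hb _).2 (e ▸ hu))
    exact h0 (e ▸ nn_A this)
  have y0 : y ≠ 0 := fun e => h3 (by rw [e]; rfl)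
  refine .inr ⟨?_, ha, y, dA y hy, det y hy y0, fun v => ⟨fun hv => ?_, ?_⟩⟩
  · ext s
    refine ⟨fun ⟨h1, h2⟩ => ⟨h2.1, h2.2.1, h2.2.2, hA _ (eq_jv h2 ▸ h1)⟩, fun ⟨h0, h1, h2, h3⟩ => ⟨?_, h0, h1, h2⟩⟩
    rw [eq_jv (s := s) ⟨h0, h1, h2⟩]
    exact W_le h hD h3
  · by_contra! k
    exact dec3 _ _ _ _ _ _ (det v hv k.1) (det y hy y0)
      (det _ (add_mem (mem_vs.2 hv) (mem_vs.2 hy)) fun e => k.2.2 (eq_neg_of_add_eq_zero_left e))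
      (det _ (sub_mem (mem_vs.2 hv) (mem_vs.2 hy)) fun e => k.2.1 (sub_eq_zero.1 e))
  · rintro (rfl | rfl | rfl)
    · exact D.one_mem
    · exact hy
    · exact neg_mem (mem_vs.2 hy)

end Cfsg.Agent.C3F
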