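import Cfsg.Agent.C3F.B2a
import Cfsg.Agent.C3F.Ab

set_option autoImplicit false
set_option linter.unusedSectionVars false

namespace Cfsg.Agent.C3F

open C3X FK Subgroup
open RFS (Au)
open SR3 (nm ce St cj)
open scoped commutatorElement

variable {E D : Subgroup SS} {𝒟 : Set (Subgroup SS)}

attribute [local simp] mul_v mul_a mul_b mul_c inv_v inv_a inv_b inv_c one_v one_a one_b one_c pf

theorem Cfg.caseH (h : Cfg E 𝒟) (e : E ⊓ sJ = sH) : E = sE := by
  obtain ⟨D, hD⟩ := h.ne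
  have o := (h.onA hD).1
  obtain ⟨k, hk⟩ := K_of (h.comm D hD) (h.exp D hD) o
  obtain rfl : D = sK k := eq_of_le_of_card_ge hk (by rw [h.card D hD, e, card_sH, card_sK])
  have hH : sH ≤ E := e ▸ inf_le_left
  have hR : sR ≤ E := fun r hr => by
    obtain ⟨d, hd, h1, h2⟩ := o.sur r.b r.c
    have : r * d⁻¹ ∈ E := hH ⟨by simp [hr.1, hd.1], by simp [h1], by simp [hr.1, hd.1, h2],
      by simp [hr.2, hd.2.1]⟩
    simpa using mul_mem this (h.le _ hD hd)
  have hE : E ≤ sE := fun x hx => by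
    have m : (jv (Pi.single 5 (x.v 5)))⁻¹ * x ∈ sE := by simp [mem_sE, jv]
    have n : Nm (sK k) (jv (Pi.single 5 (x.v 5))) := by
      simpa using (h.nrm _ hD x hx).mul (nm_K k m).inv
    have t : (⟨Pi.single 2 k, 0, 0, 1⟩ : SS) ∈ sK k := by simp [mem_sK]
    have a1 := (n _ t).2.2.1
    have a2 := (conj_K (m := x.v 5) t).2.2.1
    rw [a1] at a2
    have a3 : k = k - x.v 5 := by simpa [jv] using a2
    rw [mem_sE]
    linear_combination a3
  refine le_antisymm hE ?_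
  by_cases c : ∀ x ∈ E, x.a = 0
  · obtain rfl : E = sR := le_antisymm (fun x hx => ⟨c x hx, hE hx⟩) hR
    exact absurd (nm_K k (s := pv 1 0 0) rfl) (h.mov _ hD _ (nm_R _) fun k => by simpa [pv] using k.1)
  push Not at c
  obtain ⟨x, hx, x0⟩ := c
  have key : ∀ s ∈ sE, ∀ y ∈ E, y.a = s.a → s ∈ E := fun s hs y hy ey => by
    have : s * y⁻¹ ∈ E := hR ⟨by simp [ey], mul_mem hs (inv_mem (hE hy))⟩
    simpa using mul_mem this hy
  intro s hs
  rcases (by decide : ∀ a b : F, a ≠ 0 → 0 = b ∨ a = b ∨ -a = b) x.a s.a x0 with k | k | k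
  exacts [key s hs 1 (one_mem _) k, key s hs x hx k, key s hs x⁻¹ (inv_mem hx) k]

end Cfsg.Agent.C3F
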