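import Cfsg.Agent.C3F.B2a
import Cfsg.Agent.C3F.Ab

set_option autoImplicit false
set_option linter.unusedSectionVars false

namespace Cfsg.Agent.C3F

open C3X FK Subgroup
open RFS (Au)
open SR3 (nm ce St cj)
open scoped commutatorElement

variable {E D : Subgroup SS} {𝒟 : Set (Subgroup SS)}

namespace B3b

set_option synthInstance.maxSize 4000 in
theorem fin1 : ∀ y0 y1 y3 : F, y0 * y3 - y1 * y1 = 1 → ∃ α β γ : F,
    (∀ u0 u1 u3 : F, α * u0 + β * u1 + γ * u3 = 0 → ∃ l m : F, u0 + l * (y0 + 2 * y1 + y3) = m * y0 ∧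
      u1 + l * (y1 + y3) = m * y1 ∧ u3 + l * y3 = m * y3) ∧
    ∀ r r' : F, ∃ x1 x2 : F, α * (2 * x1) + β * (x1 + x2) + γ * (2 * x2) = r ∧
      α * (2 * x1) + β * x2 = r' := by
  decide +kernel

theorem mv (x y : SS) (i : Fin 6) : (x * y).v i = x.v i + pe x.a x.b x.c y.v i := rfl

theorem key {k : F} {y w1 w2 : V} (hy : InA y) (hd : y 0 * y 3 - y 1 * y 1 = 1) (h12 : w1 2 = 0)
    (h14 : w1 4 = k) (h15 : w1 5 = 0) (h22 : w2 2 = k) (h24 : w2 4 = 0) (h25 : w2 5 = 0) :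
    ∃ (s : SS) (l1 m1 l2 m2 : F), s.a = 1 ∧ s.v 5 = 0 ∧
      s * (⟨w1, 0, 1, 0⟩ * jv (l1 • y)) = ⟨w1, 0, 1, 0⟩ * ⟨w2, 0, 0, 1⟩ * jv (m1 • y) * s ∧
      s * (⟨w2, 0, 0, 1⟩ * jv (l2 • y)) = ⟨w2, 0, 0, 1⟩ * jv (m2 • y) * s := by
  obtain ⟨y2, y4, y5⟩ := hy
  obtain ⟨α, β, γ, h1, h2⟩ := fin1 _ _ _ hd
  obtain ⟨x1, x2, e1, e2⟩ := h2 (α * (2 * w1 1 + w1 3 - w2 0) + β * (w1 3 - w2 1 - k) + γ * (-w2 3))
    (α * (2 * w2 1 + w2 3) + β * w2 3)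
  obtain ⟨l1, m1, a0, a1, a3⟩ := h1 (2 * w1 1 + w1 3 - w2 0 - 2 * x1) (w1 3 - w2 1 - k - (x1 + x2))
    (-w2 3 - 2 * x2) (by linear_combination -e1)
  obtain ⟨l2, m2, b0, b1, b3⟩ := h1 (2 * w2 1 + w2 3 - 2 * x1) (w2 3 - x2) 0
    (by linear_combination -e2)
  refine ⟨⟨![0, 0, x1, 0, x2, 0], 1, 0, 0⟩, l1, m1, l2, m2, rfl, rfl, ?_, ?_⟩
  · refine SS.ext (v_ext ?_ ?_ ?_ ?_ ?_ ?_) ?_ ?_ ?_ <;>
      simp [mv, mul_a, mul_b, mul_c, pe0, pe1, pe2, pe3, pe4, pe5, jv, y2, y4, y5, h12, h14, h15, h22,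
        h24, h25]
    · linear_combination a0
    · linear_combination a1
    · ring
    · linear_combination a3
    · ring
  · refine SS.ext (v_ext ?_ ?_ ?_ ?_ ?_ ?_) ?_ ?_ ?_ <;>
      simp [mv, mul_a, mul_b, mul_c, pe0, pe1, pe2, pe3, pe4, pe5, jv, y2, y4, y5, h22, h24, h25]
    · linear_combination b0
    · linear_combination b1
    · ring
    · exact mul_eq_mul_right_iff.1 (by linear_combination b3)

/-- the elements with trivial entry `b` -/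
def sB : Subgroup SS where
  carrier := {s | s.b = 0}
  one_mem' := rfl
  mul_mem' := fun {x y} (h : x.b = 0) (k : y.b = 0) => by
    show x.b + y.b = 0
    rw [h, k, add_zero]
  inv_mem' := fun {x} (h : x.b = 0) => by
    show -x.b = 0
    rw [h, neg_zero]

theorem small {M : Subgroup SS} (hM : Nat.card M = 3) {p q : SS} (hp : p ∈ M) (hq : q ∈ M)
    (h1 : p.b ≠ 0) (h2 : q.b = 0) (h3 : q.c ≠ 0) : False := by
  have : Fact (Nat.card M).Prime := ⟨hM ▸ Nat.prime_three⟩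
  rcases (sB.subgroupOf M).eq_bot_or_eq_top_of_prime_card with h | h
  · have : (⟨q, hq⟩ : M) ∈ sB.subgroupOf M := h2
    rw [h, mem_bot] at this
    exact h3 (congrArg (fun x : M => x.1.c) this)
  · have : (⟨p, hp⟩ : M) ∈ sB.subgroupOf M := h ▸ mem_top _
    exact h1 this

theorem quot_J {x d : SS} (h1 : x.a = 0) (h2 : d.a = 0) (h3 : d.b = x.b) (h4 : d.c = x.c) :
    x * d⁻¹ ∈ sJ := by
  refine ⟨?_, ?_, ?_⟩ <;> simp [mul_a, mul_b, mul_c, inv_a, inv_b, inv_c, h1, h2, h3, h4]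

end B3b

open B3b

theorem Cfg.caseW (h : Cfg E 𝒟) (hD : D ∈ 𝒟) (e : E ⊓ sJ = sW) (ha : ∀ e ∈ E, e.a = 0) {y : V} (hy : InA y)
    (hd : y 0 * y 3 - y 1 * y 1 = 1) (hv : ∀ v, jv v ∈ D ↔ v = 0 ∨ v = y ∨ v = -y) : False := by
  have o := (h.onA hD).1
  obtain ⟨k, hk⟩ := K_of (h.comm D hD) (h.exp D hD) o
  have hE : E = sK k := by
    ext x
    obtain ⟨d, hd, h1, h2⟩ := o.sur x.b x.c
    refine ⟨fun hx => ?_, fun hx => ?_⟩
    · have h3 : x * d⁻¹ ∈ sW := e ▸ mem_inf.2 ⟨mul_mem hx (inv_mem (h.le D hD hd)),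
        quot_J (ha x hx) (o.a d hd) h1 h2⟩
      obtain ⟨a1, a2, a3, a4, a5, a6⟩ := h3
      have h4 : x * d⁻¹ ∈ sK k := ⟨a1, a6, by rw [a4, a3, mul_zero], by rw [a5, a2, mul_zero]⟩
      simpa using mul_mem h4 (hk hd)
    · obtain ⟨a1, a2, a3⟩ := quot_J hx.1 (o.a d hd) h1 h2
      obtain ⟨-, b1, b2, b3⟩ := mul_mem hx (inv_mem (hk hd))
      have h4 : x * d⁻¹ ∈ E ⊓ sJ := by
        rw [e]
        exact ⟨a1, a2, a3, by rw [b2, a3, mul_zero], by rw [b3, a2, mul_zero], b1⟩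
      simpa using mul_mem h4.1 (h.le D hD hd)
  have hl : ∀ l : F, jv (l • y) ∈ D := fun l => (hv _).2 (by
    rcases f3 l with rfl | rfl | rfl <;> simp)
  obtain ⟨⟨w1, a1, b1, c1⟩, hd1, rfl, rfl⟩ := o.sur 1 0
  obtain ⟨⟨w2, a2, b2, c2⟩, hd2, rfl, rfl⟩ := o.sur 0 1
  obtain ⟨rfl, p1, p2, p3⟩ := hk hd1
  obtain ⟨rfl, q1, q2, q3⟩ := hk hd2
  obtain ⟨s, l1, m1, l2, m2, s1, s2, e1, e2⟩ := key (k := k) (w1 := w1) (w2 := w2) hy hd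
    (by simpa using p2) (by simpa using p3) p1 (by simpa using q2) (by simpa using q3) q1
  obtain ⟨D', hD', hc⟩ := h.pair D hD s (hE ▸ nm_K k s2)
    (fun hs => absurd (s1.symm.trans (ha s hs)) (by decide))
  have h1 := h.idx hD'
  rw [h.card D' hD', e, card_sW] at h1
  refine small (M := D ⊓ cj s D) (by omega)
    (p := ⟨w1, 0, 1, 0⟩ * ⟨w2, 0, 0, 1⟩ * jv (m1 • y)) (q := ⟨w2, 0, 0, 1⟩ * jv (m2 • y))
    ⟨mul_mem (mul_mem hd1 hd2) (hl _), SR3.mem_cj.2 ?_⟩ ⟨mul_mem hd2 (hl _), SR3.mem_cj.2 ?_⟩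
    (by simp [mul_b, jv]) (by simp [mul_b, jv]) (by simp [mul_c, jv])
  · rw [mul_assoc, ← e1, inv_mul_cancel_left]; exact mul_mem hd1 (hl _)
  · rw [mul_assoc, ← e2, inv_mul_cancel_left]; exact mul_mem hd2 (hl _)

end Cfsg.Agent.C3F
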