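import Cfsg.Agent.C3F.Defs

set_option autoImplicit false
set_option linter.unusedSectionVars false
set_option linter.unusedSimpArgs false

namespace Cfsg.Agent.C3F

open C3X FK Subgroup
open RFS (Au)
open SR3 (nm ce St cj)
open scoped commutatorElement

variable {G : Type*} [Group G] [Finite G] {u : SS →* G} {X : Subgroup GV} {f σ σ' : SS → SS}

namespace Bas

theorem mv0 (x y : SS) : (x * y).v 0 = x.v 0 + (y.v 0 + 2 * x.a * y.v 1 + 2 * x.c * y.v 2 +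
    x.a * x.a * y.v 3 + 2 * x.a * x.c * y.v 4 + x.c * x.c * y.v 5) := rfl
theorem mv1 (x y : SS) : (x * y).v 1 = x.v 1 + (y.v 1 + x.b * y.v 2 + x.a * y.v 3 +
    (x.a * x.b + x.c) * y.v 4 + x.b * x.c * y.v 5) := rfl
theorem mv2 (x y : SS) : (x * y).v 2 = x.v 2 + (y.v 2 + x.a * y.v 4 + x.c * y.v 5) := rfl
theorem mv3 (x y : SS) : (x * y).v 3 = x.v 3 + (y.v 3 + 2 * x.b * y.v 4 + x.b * x.b * y.v 5) := rfl
theorem mv4 (x y : SS) : (x * y).v 4 = x.v 4 + (y.v 4 + x.b * y.v 5) := rfl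
theorem mv5 (x y : SS) : (x * y).v 5 = x.v 5 + y.v 5 := rfl

theorem iv0 (x : SS) : x⁻¹.v 0 = -(x.v 0 + 2 * (-x.a) * x.v 1 + 2 * (x.a * x.b - x.c) * x.v 2 +
    (-x.a) * (-x.a) * x.v 3 + 2 * (-x.a) * (x.a * x.b - x.c) * x.v 4 +
    (x.a * x.b - x.c) * (x.a * x.b - x.c) * x.v 5) := rfl
theorem iv1 (x : SS) : x⁻¹.v 1 = -(x.v 1 + (-x.b) * x.v 2 + (-x.a) * x.v 3 +
    ((-x.a) * (-x.b) + (x.a * x.b - x.c)) * x.v 4 + (-x.b) * (x.a * x.b - x.c) * x.v 5) := rfl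
theorem iv2 (x : SS) : x⁻¹.v 2 = -(x.v 2 + (-x.a) * x.v 4 + (x.a * x.b - x.c) * x.v 5) := rfl
theorem iv3 (x : SS) : x⁻¹.v 3 = -(x.v 3 + 2 * (-x.b) * x.v 4 + (-x.b) * (-x.b) * x.v 5) := rfl
theorem iv4 (x : SS) : x⁻¹.v 4 = -(x.v 4 + (-x.b) * x.v 5) := rfl
theorem iv5 (x : SS) : x⁻¹.v 5 = -x.v 5 := rfl

theorem ext9 {x y : SS} (h0 : x.v 0 = y.v 0) (h1 : x.v 1 = y.v 1) (h2 : x.v 2 = y.v 2)
    (h3 : x.v 3 = y.v 3) (h4 : x.v 4 = y.v 4) (h5 : x.v 5 = y.v 5) (ha : x.a = y.a) (hb : x.b = y.b)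
    (hc : x.c = y.c) : x = y := SS.ext (v_ext h0 h1 h2 h3 h4 h5) ha hb hc

theorem ker_ac : ac.ker = sJ := by
  ext s
  rw [MonoidHom.mem_ker, ac_apply, ← pe_zero, mem_sJ]
  exact ⟨pe_inj, fun ⟨h1, h2, h3⟩ => by rw [h1, h2, h3]⟩

theorem map_le (D : Subgroup SS) : D.map ac ≤ PP := by
  rintro _ ⟨s, -, rfl⟩
  exact pe_mem _ _ _

end Bas

open Bas

theorem card_sJ : Nat.card sJ = 729 := by
  have e : sJ ≃ V := ⟨fun s => s.1.v, fun v => ⟨jv v, jv_mem v⟩, fun s => Subtype.ext (eq_jv s.2).symm,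
    fun _ => rfl⟩
  rw [Nat.card_congr e]; simp

theorem card_sH : Nat.card sH = 243 := by
  have e : sH ≃ F × F × F × F × F :=
    ⟨fun s => (s.1.v 0, s.1.v 1, s.1.v 2, s.1.v 3, s.1.v 4),
      fun x => ⟨jv ![x.1, x.2.1, x.2.2.1, x.2.2.2.1, x.2.2.2.2, 0], rfl, rfl, rfl, rfl⟩,
      fun s => Subtype.ext (ext9 rfl rfl rfl rfl rfl s.2.2.2.2.symm s.2.1.symm s.2.2.1.symm s.2.2.2.1.symm),
      fun _ => rfl⟩
  rw [Nat.card_congr e]; simp

theorem card_sW : Nat.card sW = 27 := by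
  have e : sW ≃ F × F × F :=
    ⟨fun s => (s.1.v 0, s.1.v 1, s.1.v 3),
      fun x => ⟨jv ![x.1, x.2.1, 0, x.2.2, 0, 0], rfl, rfl, rfl, rfl, rfl, rfl⟩,
      fun s => Subtype.ext (ext9 rfl rfl s.2.2.2.2.1.symm rfl s.2.2.2.2.2.1.symm s.2.2.2.2.2.2.symm
        s.2.1.symm s.2.2.1.symm s.2.2.2.1.symm),
      fun _ => rfl⟩
  rw [Nat.card_congr e]; simp

theorem card_sK (k : F) : Nat.card (sK k) = 243 := by
  have e : sK k ≃ F × F × F × F × F :=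
    ⟨fun s => (s.1.v 0, s.1.v 1, s.1.v 3, s.1.b, s.1.c),
      fun x => ⟨⟨![x.1, x.2.1, k * x.2.2.2.2, x.2.2.1, k * x.2.2.2.1, 0], 0, x.2.2.2.1, x.2.2.2.2⟩,
        rfl, rfl, rfl, rfl⟩,
      fun s => Subtype.ext (ext9 rfl rfl s.2.2.2.1.symm rfl s.2.2.2.2.symm s.2.2.1.symm s.2.1.symm rfl rfl),
      fun _ => rfl⟩
  rw [Nat.card_congr e]; simp

theorem nm_J (s : SS) : Nm sJ s := by
  rintro e ⟨h1, h2, h3⟩
  refine ⟨?_, ?_, ?_⟩ <;> simp only [mv0, mv1, mv2, mv3, mv4, mv5, iv0, iv1, iv2, iv3, iv4, iv5, mul_a, mul_b, mul_c,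
      inv_a, inv_b, inv_c] <;> simp only [h1, h2, h3] <;> ring

theorem nm_H (s : SS) : Nm sH s := by
  rintro e ⟨h1, h2, h3, h4⟩
  refine ⟨?_, ?_, ?_, ?_⟩ <;> simp only [mv0, mv1, mv2, mv3, mv4, mv5, iv0, iv1, iv2, iv3, iv4, iv5, mul_a, mul_b, mul_c,
      inv_a, inv_b, inv_c] <;> simp only [h1, h2, h3, h4] <;> ring

theorem nm_W (s : SS) : Nm sW s := by
  rintro e ⟨h1, h2, h3, h4, h5, h6⟩
  refine ⟨?_, ?_, ?_, ?_, ?_, ?_⟩ <;> simp only [mv0, mv1, mv2, mv3, mv4, mv5, iv0, iv1, iv2, iv3, iv4, iv5, mul_a, mul_b, mul_c,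
      inv_a, inv_b, inv_c] <;> simp only [h1, h2, h3, h4, h5, h6] <;> ring

theorem nm_L (s : SS) : Nm sL s := by
  rintro e ⟨h1, h2, h3, h4, h5, h6, h7, h8⟩
  refine ⟨?_, ?_, ?_, ?_, ?_, ?_, ?_, ?_⟩ <;> simp only [mv0, mv1, mv2, mv3, mv4, mv5, iv0, iv1, iv2, iv3, iv4, iv5, mul_a, mul_b, mul_c,
      inv_a, inv_b, inv_c] <;>
    simp only [h1, h2, h3, h4, h5, h6, h7, h8] <;> ring

theorem nm_R (s : SS) : Nm sR s := by
  rintro e ⟨h1, h2⟩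
  refine ⟨?_, ?_⟩ <;> simp only [mv0, mv1, mv2, mv3, mv4, mv5, iv0, iv1, iv2, iv3, iv4, iv5, mul_a, mul_b, mul_c,
      inv_a, inv_b, inv_c] <;> simp only [h1, h2] <;> ring

theorem nm_E (s : SS) : Nm sE s := by
  intro e h1
  rw [mem_sE] at h1 ⊢
  simp only [mv0, mv1, mv2, mv3, mv4, mv5, iv0, iv1, iv2, iv3, iv4, iv5, mul_a, mul_b, mul_c,
      inv_a, inv_b, inv_c]
  simp only [h1]; ring

theorem nm_K (k : F) {s : SS} (hs : s ∈ sE) : Nm (sK k) s := by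
  rintro e ⟨h1, h2, h3, h4⟩
  rw [mem_sE] at hs
  refine ⟨?_, ?_, ?_, ?_⟩ <;> simp only [mv0, mv1, mv2, mv3, mv4, mv5, iv0, iv1, iv2, iv3, iv4, iv5, mul_a, mul_b, mul_c,
      inv_a, inv_b, inv_c] <;> simp only [h1, h2, h3, h4, hs] <;> ring

theorem conj_K {k m : F} {s : SS} (hs : s ∈ sK k) :
    jv (Pi.single 5 m) * s * (jv (Pi.single 5 m))⁻¹ ∈ sK (k - m) := by
  obtain ⟨h1, h2, h3, h4⟩ := hs
  refine ⟨?_, ?_, ?_, ?_⟩ <;> simp only [mv0, mv1, mv2, mv3, mv4, mv5, iv0, iv1, iv2, iv3, iv4, iv5, mul_a, mul_b, mul_c,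
      inv_a, inv_b, inv_c] <;> simp [jv, h1, h2, h3, h4] <;> ring

theorem comm_J {x y : SS} (hx : x ∈ sJ) (hy : y ∈ sJ) : x * y = y * x := by
  rw [eq_jv hx, eq_jv hy, jv_mul, jv_mul, add_comm]

theorem comm_K {k : F} {x y : SS} (hx : x ∈ sK k) (hy : y ∈ sK k) : x * y = y * x := by
  obtain ⟨h1, h2, h3, h4⟩ := hx
  obtain ⟨k1, k2, k3, k4⟩ := hy
  refine ext9 ?_ ?_ ?_ ?_ ?_ ?_ ?_ ?_ ?_ <;> simp only [mv0, mv1, mv2, mv3, mv4, mv5, iv0, iv1, iv2, iv3, iv4, iv5, mul_a, mul_b, mul_c,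
      inv_a, inv_b, inv_c] <;>
    (try simp only [h1, h2, h3, h4, k1, k2, k3, k4]) <;> ring

theorem comm_W {x y : SS} (hx : x ∈ sW) (hy : y.a = 0) : x * y = y * x := by
  obtain ⟨h1, h2, h3, h4, h5, h6⟩ := hx
  refine ext9 ?_ ?_ ?_ ?_ ?_ ?_ ?_ ?_ ?_ <;> simp only [mv0, mv1, mv2, mv3, mv4, mv5, iv0, iv1, iv2, iv3, iv4, iv5, mul_a, mul_b, mul_c,
      inv_a, inv_b, inv_c] <;>
    simp only [h1, h2, h3, h4, h5, h6, hy] <;> ring

theorem cube_R {x : SS} (hx : x ∈ sR) : x ^ 3 = 1 := by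
  obtain ⟨h1, h2⟩ := hx
  rw [pow_three]
  refine ext9 ?_ ?_ ?_ ?_ ?_ ?_ ?_ ?_ ?_ <;> simp only [mv0, mv1, mv2, mv3, mv4, mv5, iv0, iv1, iv2, iv3, iv4, iv5, mul_a, mul_b, mul_c,
      inv_a, inv_b, inv_c] <;>
    simp only [h1, h2, one_v, one_a, one_b, one_c, Pi.zero_apply]
  · linear_combination (x.v 0 + 2 * x.c * x.v 2) * three
  · linear_combination (x.v 1 + x.b * x.v 2 + x.c * x.v 4) * three
  · linear_combination (x.v 2) * three
  · linear_combination (x.v 3 + 2 * x.b * x.v 4) * three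
  · linear_combination (x.v 4) * three
  · ring
  · ring
  · linear_combination x.b * three
  · linear_combination x.c * three

theorem cube_J {x : SS} (hx : x ∈ sJ) : x ^ 3 = 1 := by
  rw [eq_jv hx, pow_three, jv_mul, jv_mul, ← add_assoc, v3, jv_zero]

theorem cen_J {s : SS} (h : ∀ j ∈ sJ, s * j = j * s) : s ∈ sJ := by
  rw [← ker_ac, MonoidHom.mem_ker, ac_apply]
  refine LinearEquiv.ext fun v => ?_
  have := h _ (jv_mem v)
  rw [mul_jv] at this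
  exact jv_inj (mul_right_cancel this)

theorem cen_E {s : SS} : (∀ e ∈ sE, s * e = e * s) ↔ s ∈ sL := by
  constructor
  · intro h
    have a1 := congrArg (·.v 1) (h (jv ![0, 0, 0, 1, 0, 0]) rfl)
    have a2 := congrArg (·.v 1) (h (jv ![0, 0, 1, 0, 0, 0]) rfl)
    have a3 := congrArg (·.v 0) (h (jv ![0, 0, 1, 0, 0, 0]) rfl)
    have b0 := congrArg (·.v 0) (h (pv 1 0 0) rfl)
    have b1 := congrArg (·.v 1) (h (pv 1 0 0) rfl)
    have b2 := congrArg (·.v 2) (h (pv 1 0 0) rfl)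
    have c1 := congrArg (·.v 1) (h (pv 0 1 0) rfl)
    have c4 := congrArg (·.v 4) (h (pv 0 1 0) rfl)
    simp only [mv0, mv1, mv2, mv4, jv, pv] at a1 a2 a3 b0 b1 b2 c1 c4
    simp at a1 a2 a3 b0 b1 b2 c1 c4
    have h2 : (2 : F) ≠ 0 := by decide
    refine ⟨a1, a2, a3.resolve_left h2, ?_, c1, b1, b2, c4⟩
    linear_combination b0 + b1 + (s.v 1) * three
  · rintro ⟨h1, h2, h3, h4, h5, h6, h7, h8⟩ e -
    refine ext9 ?_ ?_ ?_ ?_ ?_ ?_ ?_ ?_ ?_ <;> simp only [mv0, mv1, mv2, mv3, mv4, mv5, iv0, iv1, iv2, iv3, iv4, iv5, mul_a, mul_b, mul_c,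
      inv_a, inv_b, inv_c] <;>
      simp only [h1, h2, h3, h4, h5, h6, h7, h8] <;> ring

theorem cen_L {s : SS} : (∀ e, s * e = e * s) ↔ s ∈ sL := by
  constructor
  · exact fun h => cen_E.1 fun e _ => h e
  · rintro ⟨h1, h2, h3, h4, h5, h6, h7, h8⟩ e
    refine ext9 ?_ ?_ ?_ ?_ ?_ ?_ ?_ ?_ ?_ <;> simp only [mv0, mv1, mv2, mv3, mv4, mv5, iv0, iv1, iv2, iv3, iv4, iv5, mul_a, mul_b, mul_c,
      inv_a, inv_b, inv_c] <;>
      simp only [h1, h2, h3, h4, h5, h6, h7, h8] <;> ring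

theorem eq_z {s : SS} (h : s ∈ sL) : s = 1 ∨ s = jv zv ∨ s = jv (-zv) := by
  obtain ⟨h1, h2, h3, h4, h5, h6, h7, h8⟩ := h
  rcases f3 (s.v 0) with h | h | h
  · exact .inl (ext9 h h4 h5 h6 h7 h8 h1 h2 h3)
  · exact .inr (.inl (ext9 h h4 h5 h6 h7 h8 h1 h2 h3))
  · exact .inr (.inr (ext9 h h4 h5 h6 h7 h8 h1 h2 h3))

theorem rho_io (s : SS) : (⟨0, rr⟩ : AF) * io s * (⟨0, rr⟩ : AF)⁻¹ = io (rho s) := by
  refine AF.ext ?_ ?_
  · rw [AF.mul_v, AF.mul_v, AF.inv_v, map_zero, neg_zero, map_zero, add_zero, zero_add]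
    rfl
  · rw [AF.mul_g, AF.mul_g, AF.inv_g, io_g, io_g]
    show tor false true false * _ * (tor false true false)⁻¹ = pe s.a (-s.b) (-s.c)
    rw [tor_pe]
    simp [sg]

theorem rho_mul (s t : SS) : rho (s * t) = rho s * rho t := by
  apply io_inj
  rw [map_mul, ← rho_io, ← rho_io, ← rho_io, map_mul]
  group

theorem rho_rho (s : SS) : rho (rho s) = s :=
  SS.ext (tf_tf false true false s.v) rfl (neg_neg _) (neg_neg _)

theorem au_rho : Au sE rho := by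
  have hm : ∀ a ∈ sE, rho a ∈ sE := fun a ha => by
    rw [mem_sE] at ha ⊢
    show tor false true false a.v 5 = 0
    rw [tor5, ha, mul_zero]
  exact ⟨hm, fun a _ b _ => rho_mul a b, fun a _ b _ e => by rw [← rho_rho a, e, rho_rho],
    fun b hb => ⟨rho b, hm b hb, rho_rho b⟩⟩

/-- order of a subgroup -/
theorem card_ac (D : Subgroup SS) : Nat.card D = Nat.card ↥(D ⊓ sJ) * Nat.card (D.map ac) := by
  have h1 := (ac.comp D.subtype).ker.card_mul_index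
  rw [index_ker, ← MonoidHom.comap_ker, ker_ac, MonoidHom.range_comp, range_subtype] at h1
  rw [← h1]
  congr 1
  rw [← card_map_of_injective D.subtype_injective]
  show Nat.card ↥((sJ.subgroupOf D).map D.subtype) = _
  rw [subgroupOf_map_subtype, inf_comm]

theorem card_ab {D : Subgroup SS} (h : ∀ x ∈ D, ∀ y ∈ D, x * y = y * x) :
    Nat.card (D.map ac) = 1 ∨ Nat.card (D.map ac) = 3 ∨ Nat.card (D.map ac) = 9 := by
  have hd : Nat.card (D.map ac) ∣ 3 ^ 3 := by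
    have := card_dvd_of_le (map_le D)
    rwa [card_PP] at this
  obtain ⟨i, hi, e⟩ := (Nat.dvd_prime_pow Nat.prime_three).1 hd
  interval_cases i
  · exact .inl e
  · exact .inr (.inl e)
  · exact .inr (.inr e)
  · exfalso
    have heq : D.map ac = PP := eq_of_le_of_card_ge (map_le D) (by rw [e, card_PP]; norm_num)
    obtain ⟨x, hx, ex⟩ : pe 1 0 0 ∈ D.map ac := heq ▸ pe_mem _ _ _
    obtain ⟨y, hy, ey⟩ : pe 0 1 0 ∈ D.map ac := heq ▸ pe_mem _ _ _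
    have := congrArg ac (h x hx y hy)
    rw [map_mul, map_mul, ex, ey, pe_mul, pe_mul] at this
    exact absurd (pe_inj this).2.2 (by decide)

theorem has_z {D : Subgroup SS} (h : Nat.card (D.map ac) = 9) : ∃ d ∈ D, d.a = 0 ∧ d.b = 0 ∧ d.c = 1 := by
  by_contra hn
  have key : ∀ d ∈ D, d.a = 0 → d.b = 0 → d.c = 0 := by
    intro d hd ha hb
    rcases f3 d.c with hc | hc | hc
    · exact hc
    · exact absurd ⟨d, hd, ha, hb, hc⟩ hn
    · refine absurd ⟨d⁻¹, inv_mem hd, ?_, ?_, ?_⟩ hn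
      · rw [inv_a, ha, neg_zero]
      · rw [inv_b, hb, neg_zero]
      · rw [inv_c, ha, hc, zero_mul, zero_sub, neg_neg]
  choose r hr er using fun g : D.map ac => g.2
  have inj : Function.Injective fun g : D.map ac => ((r g).a, (r g).b) := by
    intro g g' e
    have ea : (r g).a = (r g').a := congrArg Prod.fst e
    have eb : (r g).b = (r g').b := congrArg Prod.snd e
    have := key _ (mul_mem (inv_mem (hr g)) (hr g')) (by rw [mul_a, inv_a, ea, neg_add_cancel])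
      (by rw [mul_b, inv_b, eb, neg_add_cancel])
    rw [mul_c, inv_c, inv_a, ea, eb] at this
    have ec : (r g).c = (r g').c := by linear_combination -this
    apply Subtype.ext
    rw [← er g, ← er g', ac_apply, ac_apply, ea, eb, ec]
  have sur := ((Nat.bijective_iff_injective_and_card _).2 ⟨inj, by rw [h]; simp⟩).2
  obtain ⟨g, eg⟩ := sur (1, 0)
  obtain ⟨g', eg'⟩ := sur (0, 1)
  have a1 : (r g).a = 1 := congrArg Prod.fst eg
  have b1 : (r g).b = 0 := congrArg Prod.snd eg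
  have a2 : (r g').a = 0 := congrArg Prod.fst eg'
  have b2 : (r g').b = 1 := congrArg Prod.snd eg'
  refine hn ⟨r g * r g' * (r g)⁻¹ * (r g')⁻¹,
    mul_mem (mul_mem (mul_mem (hr g) (hr g')) (inv_mem (hr g))) (inv_mem (hr g')), ?_, ?_, ?_⟩ <;>
    simp only [mul_a, mul_b, mul_c, inv_a, inv_b, inv_c, a1, b1, a2, b2] <;> ring

end Cfsg.Agent.C3F
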