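import Cfsg.Agent.C3X.Bas
import Cfsg.Agent.FK.Uniq

/-! Project C3F (fusion systems on a Sylow 3-subgroup of the first Conway group): definitions.
See `notes/C3F.md`. -/

set_option autoImplicit false
set_option linter.unusedSectionVars false

namespace Cfsg.Agent.C3F

open C3X FK Subgroup
open RFS (Au)

attribute [local simp] mul_v mul_a mul_b mul_c inv_v inv_a inv_b inv_c one_v one_a one_b one_c pf

/-- the abelian subgroup of order `3 ^ 6` -/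
def sJ : Subgroup SS where
  carrier := {s | s.a = 0 ∧ s.b = 0 ∧ s.c = 0}
  one_mem' := by simp
  mul_mem' := fun ⟨h0, h1, h2⟩ ⟨k0, k1, k2⟩ => by simp [h0, h1, h2, k0, k1, k2]
  inv_mem' := fun ⟨h0, h1, h2⟩ => by simp [h0, h1, h2]

/-- the hyperplane -/
def sH : Subgroup SS where
  carrier := {s | s.a = 0 ∧ s.b = 0 ∧ s.c = 0 ∧ s.v 5 = 0}
  one_mem' := by simp
  mul_mem' := fun ⟨h0, h1, h2, h3⟩ ⟨k0, k1, k2, k3⟩ => by simp [h0, h1, h2, h3, k0, k1, k2, k3]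
  inv_mem' := fun ⟨h0, h1, h2, h3⟩ => by simp [h0, h1, h2, h3]

/-- the span of `11, 12, 22` -/
def sW : Subgroup SS where
  carrier := {s | s.a = 0 ∧ s.b = 0 ∧ s.c = 0 ∧ s.v 2 = 0 ∧ s.v 4 = 0 ∧ s.v 5 = 0}
  one_mem' := by simp
  mul_mem' := fun ⟨h0, h1, h2, h3, h4, h5⟩ ⟨k0, k1, k2, k3, k4, k5⟩ => by
    simp [h0, h1, h2, h3, h4, h5, k0, k1, k2, k3, k4, k5]
  inv_mem' := fun ⟨h0, h1, h2, h3, h4, h5⟩ => by simp [h0, h1, h2, h3, h4, h5]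

/-- the centre -/
def sL : Subgroup SS where
  carrier := {s | s.a = 0 ∧ s.b = 0 ∧ s.c = 0 ∧ s.v 1 = 0 ∧ s.v 2 = 0 ∧ s.v 3 = 0 ∧ s.v 4 = 0 ∧ s.v 5 = 0}
  one_mem' := by simp
  mul_mem' := fun ⟨h0, h1, h2, h3, h4, h5, h6, h7⟩ ⟨k0, k1, k2, k3, k4, k5, k6, k7⟩ => by
    simp [h0, h1, h2, h3, h4, h5, h6, h7, k0, k1, k2, k3, k4, k5, k6, k7]
  inv_mem' := fun ⟨h0, h1, h2, h3, h4, h5, h6, h7⟩ => by simp [h0, h1, h2, h3, h4, h5, h6, h7]

/-- the special group `3 ^ (3 + 4)` -/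
def sR : Subgroup SS where
  carrier := {s | s.a = 0 ∧ s.v 5 = 0}
  one_mem' := by simp
  mul_mem' := fun ⟨h0, h1⟩ ⟨k0, k1⟩ => by simp [h0, h1, k0, k1]
  inv_mem' := fun ⟨h0, h1⟩ => by simp [h0, h1]

/-- the essential subgroup that does not contain `sJ` -/
def sE : Subgroup SS where
  carrier := {s | s.v 5 = 0}
  one_mem' := by simp
  mul_mem' := fun (h0 : _ = _) (k0 : _ = _) => by simp [h0, k0]
  inv_mem' := fun (h0 : _ = _) => by simp [h0]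

/-- the three other abelian subgroups of order `3 ^ 5` of `sR` -/
def sK (k : F) : Subgroup SS where
  carrier := {s | s.a = 0 ∧ s.v 5 = 0 ∧ s.v 2 = k * s.c ∧ s.v 4 = k * s.b}
  one_mem' := by simp
  mul_mem' := fun ⟨h0, h1, h2, h3⟩ ⟨k0, k1, k2, k3⟩ => by simp [h0, h1, h2, h3, k0, k1, k2, k3, mul_add]
  inv_mem' := fun ⟨h0, h1, h2, h3⟩ => by simp [h0, h1, h2, h3]

theorem mem_sJ {s : SS} : s ∈ sJ ↔ s.a = 0 ∧ s.b = 0 ∧ s.c = 0 := Iff.rfl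
theorem mem_sH {s : SS} : s ∈ sH ↔ s.a = 0 ∧ s.b = 0 ∧ s.c = 0 ∧ s.v 5 = 0 := Iff.rfl
theorem mem_sW {s : SS} : s ∈ sW ↔ s.a = 0 ∧ s.b = 0 ∧ s.c = 0 ∧ s.v 2 = 0 ∧ s.v 4 = 0 ∧ s.v 5 = 0 := Iff.rfl
theorem mem_sL {s : SS} : s ∈ sL ↔
    s.a = 0 ∧ s.b = 0 ∧ s.c = 0 ∧ s.v 1 = 0 ∧ s.v 2 = 0 ∧ s.v 3 = 0 ∧ s.v 4 = 0 ∧ s.v 5 = 0 := Iff.rfl
theorem mem_sR {s : SS} : s ∈ sR ↔ s.a = 0 ∧ s.v 5 = 0 := Iff.rfl
theorem mem_sE {s : SS} : s ∈ sE ↔ s.v 5 = 0 := Iff.rfl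
theorem mem_sK {k : F} {s : SS} : s ∈ sK k ↔ s.a = 0 ∧ s.v 5 = 0 ∧ s.v 2 = k * s.c ∧ s.v 4 = k * s.b := Iff.rfl

theorem jv_mem (v : V) : jv v ∈ sJ := ⟨rfl, rfl, rfl⟩

theorem eq_jv {s : SS} (h : s ∈ sJ) : s = jv s.v := SS.ext rfl h.1 h.2.1 h.2.2

theorem jv_mul (v w : V) : jv v * jv w = jv (v + w) :=
  SS.ext (congrArg (v + ·) (pf_zero w)) (add_zero _) (add_zero _) (by simp [jv])

theorem jv_zero : jv 0 = 1 := rfl

theorem jv_inv (v : V) : (jv v)⁻¹ = jv (-v) :=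
  inv_eq_of_mul_eq_one_right (by rw [jv_mul, add_neg_cancel, jv_zero])

theorem jv_inj {v w : V} (h : jv v = jv w) : v = w := congrArg SS.v h

theorem mul_jv (s : SS) (v : V) : s * jv v = jv (pe s.a s.b s.c v) * s :=
  SS.ext (by show s.v + pf s.a s.b s.c v = pf s.a s.b s.c v + pf 0 0 0 s.v; rw [pf_zero, add_comm])
    (by simp [jv]) (by simp [jv]) (by simp [jv])

theorem conj_jv (s : SS) (v : V) : s * jv v * s⁻¹ = jv (pe s.a s.b s.c v) := by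
  rw [mul_jv, mul_inv_cancel_right]

theorem jv_pv (s : SS) : s = jv s.v * pv s.a s.b s.c :=
  SS.ext (by show s.v = s.v + pf 0 0 0 0; rw [pf_zero, add_zero]) (by simp [jv, pv]) (by simp [jv, pv])
    (by simp [jv, pv])

/-- the action on the module -/
def ac : SS →* GV := MonoidHom.mk' (fun s => pe s.a s.b s.c) fun _ _ => (pe_mul ..).symm

theorem ac_apply (s : SS) : ac s = pe s.a s.b s.c := rfl

theorem three_SS : IsPGroup 3 SS := IsPGroup.of_card (n := 9) card_SS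

/-- the affine group -/
@[ext] structure AF where
  /-- translation part -/
  v : V
  /-- linear part -/
  g : GV

instance AF.instGroup : Group AF where
  mul x y := ⟨x.v + x.g y.v, x.g * y.g⟩
  one := ⟨0, 1⟩
  inv x := ⟨-x.g⁻¹ x.v, x.g⁻¹⟩
  mul_assoc x y z := AF.ext (by
    show x.v + x.g y.v + (x.g * y.g) z.v = x.v + x.g (y.v + y.g z.v)
    rw [map_add, gmul, add_assoc]) (mul_assoc _ _ _)
  one_mul x := AF.ext (zero_add _) (one_mul _)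
  mul_one x := AF.ext (by show x.v + x.g 0 = x.v; rw [map_zero, add_zero]) (mul_one _)
  inv_mul_cancel x := AF.ext (neg_add_cancel _) (inv_mul_cancel _)

theorem AF.mul_v (x y : AF) : (x * y).v = x.v + x.g y.v := rfl
theorem AF.mul_g (x y : AF) : (x * y).g = x.g * y.g := rfl
theorem AF.inv_v (x : AF) : x⁻¹.v = -x.g⁻¹ x.v := rfl
theorem AF.inv_g (x : AF) : x⁻¹.g = x.g⁻¹ := rfl
theorem AF.one_v : (1 : AF).v = 0 := rfl
theorem AF.one_g : (1 : AF).g = 1 := rfl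

/-- the model group inside the affine group -/
def io : SS →* AF := MonoidHom.mk' (fun s => ⟨s.v, pe s.a s.b s.c⟩) fun _ _ => AF.ext rfl (pe_mul ..).symm

theorem io_v (s : SS) : (io s).v = s.v := rfl
theorem io_g (s : SS) : (io s).g = pe s.a s.b s.c := rfl

theorem io_inj : Function.Injective io := fun _ _ h =>
  let ⟨h1, h2, h3⟩ := pe_inj (congrArg AF.g h)
  SS.ext (congrArg AF.v h) h1 h2 h3

theorem conj_io_jv (y : AF) (v : V) : y * io (jv v) * y⁻¹ = io (jv (y.g v)) := by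
  have e : ∀ w, (io (jv w)).g = 1 := fun _ => pe_zero
  refine AF.ext ?_ (by rw [AF.mul_g, AF.mul_g, e, e, mul_one, AF.inv_g, mul_inv_cancel])
  rw [AF.mul_v, AF.mul_v, AF.mul_g, e, mul_one, AF.inv_v, map_neg, ginv']
  show y.v + y.g v + -y.v = y.g v
  abel

/-- `f` is induced on `P` by an affine map with linear part in `X` -/
def InX (X : Subgroup GV) (P : Subgroup SS) (f : SS → SS) : Prop :=
  ∃ y : AF, y.g ∈ X ∧ ∀ s ∈ P, y * io s * y⁻¹ = io (f s)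

variable {G : Type*} [Group G]

/-- normal form above `sJ` -/
structure NF (u : SS →* G) (X : Subgroup GV) : Prop where
  sat : Sat 3 u
  hyp : Hyp X
  iff : ∀ P, sJ ≤ P → ∀ f, In u P f ↔ InX X P f

/-- the three candidates for a normal subgroup are not normal -/
structure Good (u : SS →* G) : Prop where
  sat : Sat 3 u
  nJ : ¬ (groupFusionSystem u.range).IsNormal (sJ.map u)
  nL : ¬ (groupFusionSystem u.range).IsNormal (sL.map u)
  nW : ¬ (groupFusionSystem u.range).IsNormal (sW.map u)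

/-- some automorphism of `sE` moves the hyperplane -/
def EssE (u : SS →* G) : Prop := ∃ f, Fa u sE f ∧ ∃ h ∈ sH, f h ∉ sH

/-- the conjugates of `E ⊓ sJ` under automorphisms outside a strongly embedded subgroup -/
structure Cfg (E : Subgroup SS) (𝒟 : Set (Subgroup SS)) : Prop where
  nJ : ¬ sJ ≤ E
  cen : ∀ s, (∀ e ∈ E, s * e = e * s) → s ∈ E
  ne : 𝒟.Nonempty
  le : ∀ D ∈ 𝒟, D ≤ E
  nrm : ∀ D ∈ 𝒟, ∀ e ∈ E, Nm D e
  comm : ∀ D ∈ 𝒟, ∀ x ∈ D, ∀ y ∈ D, x * y = y * x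
  exp : ∀ D ∈ 𝒟, ∀ x ∈ D, x ^ 3 = 1
  card : ∀ D ∈ 𝒟, Nat.card D = Nat.card ↥(E ⊓ sJ)
  mov : ∀ D ∈ 𝒟, ∀ s, Nm E s → s ∉ E → ¬ Nm D s
  pair : ∀ D ∈ 𝒟, ∀ s, Nm E s → s ∉ E →
    ∃ D' ∈ 𝒟, Nat.card ↥(D ⊓ SR3.cj s D) = Nat.card ↥(D' ⊓ sJ)

/-- `D` covers exactly the group of transvections with axis `e1, e2` -/
structure OnA (D : Subgroup SS) : Prop where
  a : ∀ d ∈ D, d.a = 0
  sur : ∀ b c : F, ∃ d ∈ D, d.b = b ∧ d.c = c

/-- conjugation by `diag(1,1,-1)` -/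
def rho (s : SS) : SS := ⟨rr s.v, s.a, -s.b, -s.c⟩

/-- `σ` turns `sR / sW` by a quarter and is trivial on `sW` and on `sE / sR` -/
structure Sw1 (σ : SS → SS) : Prop where
  w : ∀ s ∈ sW, σ s = s
  a : ∀ s ∈ sE, (σ s).a = s.a
  r : ∀ s ∈ sR, (σ s).v 2 = -s.c ∧ (σ s).v 4 = -s.b ∧ (σ s).c = s.v 2 ∧ (σ s).b = s.v 4

/-- the normalised quarter turn -/
structure Sw (σ : SS → SS) : Prop extends Sw1 σ where
  rho : ∀ s ∈ sE, σ (rho s) = rho (σ s)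
  pa : σ (pv 1 0 0) = pv 1 0 0

/-- the centre is inverted -/
def T1 (u : SS →* G) : Prop := IsConj (u (jv zv)) (u (jv (-zv)))

/-- the centre has many conjugates in `sJ` -/
def T2 (u : SS →* G) : Prop := 28 ≤ {v : V | IsConj (u (jv zv)) (u (jv v))}.ncard

/-- the three types -/
def Ty (l : F) (t : Bool) : Prop := l = 0 ∨ (l = 1 ∧ t = true)

end Cfsg.Agent.C3F
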