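import Cfsg.Agent.C3F.Ab

set_option autoImplicit false
set_option linter.unusedSectionVars false

namespace Cfsg.Agent.C3F

open C3X FK Subgroup
open RFS (Au)
open SR3 (nm ce St cj)
open scoped commutatorElement

variable {G : Type*} [Group G] [Finite G] {u : SS →* G} {X : Subgroup GV} {f σ σ' : SS → SS}

namespace ExtA

theorem pow_mul_mem {T : Subgroup G} {n t : G} (hn : n ∈ nm T) (ht : t ∈ T) (k : ℕ) :
    (n ^ k)⁻¹ * (n * t) ^ k ∈ T := by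
  induction k with
  | zero => simp
  | succ k ih =>
    have e : (n ^ (k + 1))⁻¹ * (n * t) ^ (k + 1) = n⁻¹ * ((n ^ k)⁻¹ * (n * t) ^ k) * n⁻¹⁻¹ * t := by
      rw [pow_succ, pow_succ, mul_inv_rev, inv_inv]; simp only [mul_assoc]
    rw [e]
    exact mul_mem (SR3.conj_mem (inv_mem hn) ih) ht

theorem pg_map (u : SS →* G) (B : Subgroup SS) : IsPGroup 3 (B.map u) :=
  (three_SS.to_subgroup B).map u

theorem comm_JH {j : SS} (hj : j ∈ sJ) (s : SS) : ⁅j, s⁆ ∈ sH := by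
  have e : ⁅j, s⁆ = jv (j.v + pe s.a s.b s.c (-j.v)) := by
    rw [← jv_mul, ← conj_jv, ← jv_inv, ← eq_jv hj, commutatorElement_def]
    simp only [mul_assoc]
  rw [e]
  refine ⟨rfl, rfl, rfl, ?_⟩
  show j.v 5 + pe s.a s.b s.c (-j.v) 5 = 0
  rw [pe5]; simp

theorem H_le_E : sH ≤ sE := fun _ h => h.2.2.2
theorem R_le_E : sR ≤ sE := fun _ h => h.2
theorem W_le_R : sW ≤ sR := fun _ h => ⟨h.1, h.2.2.2.2.2⟩

theorem comm_u {x : G} {a b : SS} (h : x * u a * x⁻¹ = u b) : ⁅x, u a⁆ = u (b * a⁻¹) := by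
  rw [commutatorElement_def, h, map_mul, map_inv]

end ExtA

open ExtA

theorem ext_E (h : Sat 3 u) (hf : Fa u sE f) (hH : ∀ s ∈ sH, f s ∈ sH) : Ext u sE f := by
  have loc := h.loc nm_E
  obtain ⟨x, hx⟩ := hf.ind
  have xn : x ∈ nm (sE.map u) := nm_of_ind hf.au.mem hx
  have xH : x ∈ nm (sH.map u) := nm_of_ind hH fun a ha => hx a (H_le_E ha)
  set T : Subgroup G := nm (sE.map u) ⊓ St (sE.map u : Subgroup G) (sH.map u) ⊓ ce (sH.map u) with hT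
  have nT : ∀ g, g ∈ nm (sE.map u) → g ∈ nm (sH.map u) → g ∈ nm T := fun g h1 h2 =>
    SR3.nm_inf (SR3.nm_inf (SR3.nm_nm h1) (SR3.nm_St h1 h2)) (SR3.nm_ce h2)
  have NT : u.range ≤ nm T := fun g hg => nT g (loc.norm hg) (Fus.range_nm nm_H hg)
  have hHE : sH.map u ≤ sE.map u := map_mono H_le_E
  have cT : ce (sE.map u) ≤ T := le_inf (le_inf (SR3.ce_le_nm le_rfl) (SR3.ce_le_St le_rfl hHE))
    (centralizer_le (SetLike.coe_subset_coe.2 hHE))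
  have jT : ∀ j ∈ sJ, u j ∈ T := fun j hj => by
    refine ⟨⟨loc.norm ⟨j, rfl⟩, Fus.range_nm nm_H ⟨j, rfl⟩, ?_⟩, SR3.mem_ce.2 ?_⟩
    · rintro _ ⟨e, -, rfl⟩
      exact ⟨_, comm_JH hj e, map_commutatorElement u j e⟩
    · rintro _ ⟨e, he, rfl⟩
      rw [← map_mul, ← map_mul, comm_J ⟨he.1, he.2.1, he.2.2.1⟩ hj]
  have pT : ∀ g ∈ T, ∃ m, g ^ 3 ^ m ∈ ce (sE.map u) := fun g hg => by
    obtain ⟨m, hm⟩ := SR3.St_pow (Z := ⊥) (pg_map u sE) hHE hg.1.2 (by rw [SR3.St_bot]; exact hg.2)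
    exact ⟨m, by rwa [SR3.St_bot] at hm⟩
  have m1 := loc.max (K := ce (sE.map u)) (P := u.range ⊔ T) le_rfl (fun _ hg => SR3.nm_ce hg) le_sup_left
    (sup_le loc.norm fun _ hg => hg.1.1) (fun g hg => by
      obtain ⟨n, hn, t, ht, rfl⟩ := (SR3.mem_sup_of_nm NT).1 hg
      obtain ⟨a, ha⟩ := loc.pg ⟨n, hn⟩
      have ha' : n ^ 3 ^ a = 1 := congrArg Subtype.val ha
      have k := pow_mul_mem (NT hn) ht (3 ^ a)
      rw [ha', inv_one, one_mul] at k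
      obtain ⟨b, hb⟩ := pT _ k
      exact ⟨a + b, by rwa [pow_add, pow_mul]⟩)
  rw [inf_eq_left.2 (SR3.ce_le_nm le_rfl)] at m1
  have eL : u.range ⊔ ce (sE.map u) = sE.map u ⊔ T := by
    refine le_antisymm (sup_le ?_ (cT.trans le_sup_right))
      (sup_le (loc.le.trans le_sup_left) (le_sup_right.trans m1))
    rintro _ ⟨s, rfl⟩
    rw [jv_pv s, map_mul]
    exact mul_mem (mem_sup_right (jT _ (jv_mem _))) (mem_sup_left ⟨_, (rfl : (0 : V) 5 = 0), rfl⟩)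
  obtain ⟨l, hl, e⟩ := loc.frat (u.range ⊔ ce (sE.map u)) le_sup_left le_sup_right
    (sup_le loc.norm (SR3.ce_le_nm le_rfl)) x xn (by rw [eL]; exact SR3.nm_sup xn (nT x xn xH))
  obtain ⟨s, hs, c, hc', rfl⟩ := (SR3.mem_sup_of_nm fun g hg => SR3.nm_ce (loc.norm hg)).1 hl
  have m3 : x * (s * c) * s⁻¹ ∈ nm ((⊤ : Subgroup SS).map u) := by
    rw [← MonoidHom.range_eq_map]
    exact mul_mem e (inv_mem (Subgroup.le_normalizer hs))
  obtain ⟨F, hF, eF⟩ := Fa.of_nm h.inj m3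
  refine ⟨F, hF, fun a ha => h.inj ?_⟩
  have m4 := SR3.mem_ce.1 (SR3.conj_mem (SR3.nm_ce (loc.norm hs)) hc') (u a) ⟨a, ha, rfl⟩
  rw [← eF a trivial, ← hx a ha]
  calc x * (s * c) * s⁻¹ * u a * (x * (s * c) * s⁻¹)⁻¹
      = x * (s * c * s⁻¹ * u a) * (x * (s * c) * s⁻¹)⁻¹ := by group
    _ = x * u a * x⁻¹ := by rw [← m4]; group

theorem inn_E (h : Sat 3 u) (hf : Fa u sE f) (h1 : ∀ s ∈ sW, f s = s) (h2 : ∀ s ∈ sR, f s * s⁻¹ ∈ sW)
    (h3 : ∀ s ∈ sE, f s * s⁻¹ ∈ sR) : ∃ r ∈ sR, ∀ s ∈ sE, f s = r * s * r⁻¹ := by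
  have loc := h.loc nm_E
  obtain ⟨x, hx⟩ := hf.ind
  have xn : x ∈ nm (sE.map u) := nm_of_ind hf.au.mem hx
  have nn : ∀ g ∈ nm (sE.map u), g ∈ nm (sR.map u) ∧ g ∈ nm (sW.map u) := fun g hg => by
    obtain ⟨φ, hφ, e⟩ := Fa.of_nm h.inj hg
    obtain ⟨-, k1, k2, -⟩ := au_E hφ.au
    exact ⟨nm_of_ind k2 fun a ha => e a (R_le_E ha), nm_of_ind k1 fun a ha => e a (R_le_E (W_le_R ha))⟩
  set T : Subgroup G := nm (sE.map u) ⊓ St (sE.map u : Subgroup G) (sR.map u) ⊓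
    St (sR.map u : Subgroup G) (sW.map u) ⊓ ce (sW.map u) with hT
  have m1 : T ≤ u.range ⊔ ce (sE.map u) := by
    refine loc.fus_le (fun _ hg => hg.1.1.1) (fun g hg => ?_) fun g hg => ?_
    · obtain ⟨k1, k2⟩ := nn g hg
      exact SR3.nm_inf (SR3.nm_inf (SR3.nm_inf (SR3.nm_nm hg) (SR3.nm_St hg k1)) (SR3.nm_St k1 k2))
        (SR3.nm_ce k2)
    · obtain ⟨m, hm⟩ := SR3.St_pow (Z := ⊥) (pg_map u sR) (map_mono W_le_R) hg.1.2
        (by rw [SR3.St_bot]; exact hg.2)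
      obtain ⟨n, hn⟩ := SR3.St_pow (Z := ⊥) (pg_map u sE) (map_mono R_le_E) (pow_mem hg.1.1.2 (3 ^ m)) hm
      exact ⟨m + n, by rwa [SR3.St_bot, ← pow_mul, ← pow_add] at hn⟩
  have xT : x ∈ T := by
    obtain ⟨k1, k2⟩ := nn x xn
    refine ⟨⟨⟨xn, k1, ?_⟩, k2, ?_⟩, SR3.mem_ce.2 ?_⟩
    · rintro _ ⟨e, he, rfl⟩
      exact ⟨_, h3 e he, (comm_u (hx e he)).symm⟩
    · rintro _ ⟨e, he, rfl⟩
      exact ⟨_, h2 e he, (comm_u (hx e (R_le_E he))).symm⟩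
    · rintro _ ⟨e, he, rfl⟩
      have k := hx e (R_le_E (W_le_R he))
      rw [h1 e he] at k
      rw [← k]
      nth_rewrite 2 [k]
      group
  obtain ⟨_, ⟨s, rfl⟩, c, hc, rfl⟩ := (SR3.mem_sup_of_nm fun g hg => SR3.nm_ce (loc.norm hg)).1 (m1 xT)
  have key : ∀ e ∈ sE, f e = s * e * s⁻¹ := fun e he => h.inj (by
    rw [← hx e he, map_mul, map_mul, map_inv]
    calc u s * c * u e * (u s * c)⁻¹ = u s * (c * u e) * c⁻¹ * (u s)⁻¹ := by group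
      _ = _ := by rw [← SR3.mem_ce.1 hc (u e) ⟨e, he, rfl⟩]; group)
  have ha : s.a = 0 := by
    have w : jv ![0, 0, 0, 1, 0, 0] ∈ sW := ⟨rfl, rfl, rfl, rfl, rfl, rfl⟩
    have k := h1 _ w
    rw [key _ (R_le_E (W_le_R w)), conj_jv] at k
    have k' := congrFun (jv_inj k) 1
    rw [pe1] at k'
    simpa using k'
  refine ⟨s, ⟨ha, ?_⟩, key⟩
  have w : pv 0 0 1 ∈ sR := ⟨rfl, rfl⟩
  have k := h2 _ w
  rw [key _ (R_le_E w)] at k
  have k' := k.2.2.2.1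
  simp [mul_v, mul_a, mul_b, mul_c, inv_v, inv_a, inv_b, inv_c, pf, pv, ha] at k'
  have e2 : Matrix.vecHead (Matrix.vecTail (Matrix.vecTail s.v)) = s.v 2 := rfl
  linear_combination e2 - k'

end Cfsg.Agent.C3F
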