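import Cfsg.Agent.C3F.Bas
import Cfsg.Agent.H2.Gaschutz

/-! Project C3F: a group with normal self-centralising module embeds in the affine group. -/

set_option autoImplicit false
set_option linter.unusedSectionVars false

namespace Cfsg.Agent.C3F

open C3X FK Subgroup
open RFS (Au)
open SR3 (nm ce St cj)
open scoped commutatorElement

variable {G : Type*} [Group G] [Finite G] {u : SS →* G} {X : Subgroup GV} {f σ σ' : SS → SS}

namespace GasA

theorem ex_act (hn : (sJ.map u).Normal) (g : G) (v : V) :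
    ∃ w, g * u (jv v) * g⁻¹ = u (jv w) := by
  obtain ⟨s, hs, e⟩ := hn.conj_mem (u (jv v)) (mem_map_of_mem u (jv_mem v)) g
  exact ⟨s.v, by rw [← eq_jv hs]; exact e.symm⟩

theorem ex_pi (hu : Function.Injective u) (hn : (sJ.map u).Normal) :
    ∃ π : G →* GV, ∀ g v, g * u (jv v) * g⁻¹ = u (jv (π g v)) := by
  choose p hp using ex_act hn
  have inj : ∀ {v w}, u (jv v) = u (jv w) → v = w := fun h => jv_inj (hu h)
  have pm : ∀ g h v, p (g * h) v = p g (p h v) := fun g h v =>
    inj (by rw [← hp, ← hp, ← hp]; group)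
  have p1 : ∀ v, p 1 v = v := fun v => inj (by rw [← hp]; group)
  have pa : ∀ g v w, p g (v + w) = p g v + p g w := fun g v w => inj (by
    rw [← hp, ← jv_mul, ← jv_mul, map_mul, map_mul, ← hp, ← hp]; group)
  have p0 : ∀ g, p g 0 = 0 := fun g => inj (by rw [← hp, jv_zero, map_one]; group)
  have pn : ∀ g v, p g (-v) = -p g v := fun g v =>
    eq_neg_of_add_eq_zero_left (by rw [← pa, neg_add_cancel, p0])
  have ps : ∀ g (c : F) v, p g (c • v) = c • p g v := fun g c v => by
    rcases f3 c with rfl | rfl | rfl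
    · rw [zero_smul, zero_smul, p0]
    · rw [one_smul, one_smul]
    · rw [neg_one_smul, neg_one_smul, pn]
  exact ⟨MonoidHom.mk' (fun g => C3X.mk (p g) (p g⁻¹) (pa g) (ps g)
    (fun v => by rw [← pm, inv_mul_cancel, p1]) (fun v => by rw [← pm, mul_inv_cancel, p1]))
    (fun g h => LinearEquiv.ext fun v => pm g h v), hp⟩

/-- the standard complement -/
def sA : Subgroup SS where
  carrier := {s | s.v = 0}
  one_mem' := rfl
  mul_mem' := fun {x y} (hx : x.v = 0) (hy : y.v = 0) => by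
    show (x * y).v = 0
    rw [mul_v, hx, hy, pf_nil, add_zero]
  inv_mem' := fun {x} (hx : x.v = 0) => by
    show x⁻¹.v = 0
    rw [inv_v, hx, pf_nil, neg_zero]

theorem ex_compl (hu : Function.Injective u) (ho : ¬ 3 ∣ u.range.index)
    (hn : (sJ.map u).Normal) : ∃ H : Subgroup G, IsComplement' (sJ.map u) H := by
  have : IsMulCommutative (sJ.map u) := ⟨⟨by
    rintro ⟨_, x, hx, rfl⟩ ⟨_, y, hy, rfl⟩
    exact Subtype.ext (by
      show u x * u y = u y * u x
      rw [← map_mul, ← map_mul, comm_J hx hy])⟩⟩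
  refine H2.gaschutz_exists (sJ.map u) u.range (map_le_range _ _) ?_ (sA.map u)
    (map_le_range _ _) ?_ ?_
  · rw [card_map_of_injective hu, card_sJ]
    exact Nat.Coprime.pow_left 6 ((Nat.Prime.coprime_iff_not_dvd Nat.prime_three).2 ho)
  · rw [← map_inf _ _ _ hu, map_eq_bot_iff_of_injective _ hu, eq_bot_iff]
    rintro s ⟨h1, h2⟩
    exact SS.ext h1 h2.1 h2.2.1 h2.2.2
  · rw [← Subgroup.map_sup, MonoidHom.range_eq_map]
    congr 1
    rw [eq_top_iff]
    intro s _
    rw [jv_pv s]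
    exact mul_mem_sup (jv_mem _) (show (pv s.a s.b s.c).v = 0 from rfl)

end GasA

open GasA

/-- the action on the module and a complement -/
theorem gas1 (hu : Function.Injective u) (ho : ¬ 3 ∣ u.range.index) (hn : (sJ.map u).Normal)
    (hc : ce (sJ.map u) ≤ sJ.map u) : ∃ φ : G →* AF, Function.Injective φ ∧ (∀ v, φ (u (jv v)) = io (jv v)) ∧
      ∀ s, (φ (u s)).g = ac s := by
  obtain ⟨π, hπ⟩ := ex_pi hu hn
  obtain ⟨H, hH⟩ := ex_compl hu ho hn
  have ex : ∀ g : G, ∃ w, (u (jv w))⁻¹ * g ∈ H := fun g => by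
    obtain ⟨⟨⟨_, s, hs, rfl⟩, c⟩, e⟩ := hH.2 g
    have e' : u s * c.1 = g := e
    refine ⟨s.v, ?_⟩
    rw [← eq_jv hs, ← e', inv_mul_cancel_left]
    exact c.2
  choose w hw using ex
  have uq : ∀ g v, (u (jv v))⁻¹ * g ∈ H → w g = v := fun g v h => by
    have h1 : (u (jv v))⁻¹ * u (jv (w g)) ∈ H := by
      have := H.mul_mem h (H.inv_mem (hw g))
      convert this using 1
      group
    have h2 : (u (jv v))⁻¹ * u (jv (w g)) ∈ sJ.map u :=
      mul_mem (inv_mem (mem_map_of_mem u (jv_mem _))) (mem_map_of_mem u (jv_mem _))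
    have h3 := (Subgroup.disjoint_def.1 hH.disjoint) h2 h1
    exact (jv_inj (hu (inv_mul_eq_one.1 h3))).symm
  have wm : ∀ g h, w (g * h) = w g + π g (w h) := fun g h => uq _ _ (by
    rw [add_comm, ← jv_mul, map_mul, ← hπ]
    convert H.mul_mem (hw g) (hw h) using 1
    group)
  have wj : ∀ v, w (u (jv v)) = v := fun v => uq _ _ (by rw [inv_mul_cancel]; exact H.one_mem)
  have hac : ∀ s, π (u s) = ac s := fun s => LinearEquiv.ext fun v => jv_inj (hu (by
    rw [← hπ, ← map_inv, ← map_mul, ← map_mul, conj_jv]; rfl))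
  refine ⟨MonoidHom.mk' (fun g => ⟨w g, π g⟩) fun g h => AF.ext (wm g h) (map_mul π g h), ?_,
    fun v => AF.ext (wj v) (hac _), hac⟩
  rw [injective_iff_map_eq_one]
  intro g h
  have h1 : w g = 0 := congrArg AF.v h
  have h2 : π g = 1 := congrArg AF.g h
  obtain ⟨s, hs, rfl⟩ := hc (show g ∈ ce (sJ.map u) by
    rintro _ ⟨s, hs, rfl⟩
    have := hπ g s.v
    rw [h2, gone, ← eq_jv hs] at this
    exact (mul_inv_eq_iff_eq_mul.1 this).symm)
  rw [eq_jv hs, wj] at h1
  rw [eq_jv hs, h1, jv_zero, map_one]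

theorem gas (hu : Function.Injective u) (ho : ¬ 3 ∣ u.range.index) (hn : (sJ.map u).Normal)
    (hc : ce (sJ.map u) ≤ sJ.map u) : ∃ (β : SS ≃* SS) (X : Subgroup GV), Hyp X ∧
      ∀ P f, In (u.comp β.toMonoidHom) P f ↔ InX X P f := by
  obtain ⟨φ, hi, hj, hg⟩ := gas1 hu ho hn hc
  let γ0 : SS → SS := fun s => ⟨(φ (u s)).v, s.a, s.b, s.c⟩
  have hγ : ∀ s, io (γ0 s) = φ (u s) := fun s => AF.ext rfl (hg s).symm
  let γ : SS →* SS := MonoidHom.mk' γ0 fun s t =>
    io_inj (by rw [map_mul, hγ, hγ, hγ, map_mul, map_mul])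
  have hγi : Function.Injective γ := fun s t h =>
    hu (hi (by rw [← hγ, ← hγ]; exact congrArg io h))
  let β : SS ≃* SS := (MulEquiv.ofBijective γ (Finite.injective_iff_bijective.1 hγi)).symm
  have hβ : ∀ s, φ (u (β s)) = io s := fun s => by
    rw [← hγ]
    exact congrArg io
      ((MulEquiv.ofBijective γ (Finite.injective_iff_bijective.1 hγi)).apply_symm_apply s)
  let π : G →* GV := MonoidHom.mk' (fun g => (φ g).g) fun g h => by rw [map_mul, AF.mul_g]
  have hk : π.ker = sJ.map u := by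
    ext g
    constructor
    · intro h
      have h' : (φ g).g = 1 := h
      have : φ g = io (jv (φ g).v) := AF.ext rfl (h'.trans pe_zero.symm)
      rw [← hj] at this
      rw [hi this]
      exact mem_map_of_mem u (jv_mem _)
    · rintro ⟨s, hs, rfl⟩
      show (φ (u s)).g = 1
      rw [hg, ac_apply, hs.1, hs.2.1, hs.2.2, pe_zero]
  refine ⟨β, π.range, ⟨?_, ?_⟩, fun P f => ⟨?_, ?_⟩⟩
  · rintro _ ⟨a, b, c, rfl⟩
    exact ⟨u (pv a b c), hg _⟩
  · have h1 := π.ker.card_mul_index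
    have h2 : Nat.card u.range = 3 ^ 9 := by
      rw [MonoidHom.range_eq_map, card_map_of_injective hu, card_top, card_SS]
    rw [index_ker, hk, card_map_of_injective hu, card_sJ, ← u.range.card_mul_index, h2] at h1
    omega
  · rintro ⟨g, h⟩
    refine ⟨φ g, ⟨g, rfl⟩, fun s hs => ?_⟩
    rw [← hβ, ← hβ, ← map_inv, ← map_mul, ← map_mul]
    exact congrArg φ (h s hs)
  · rintro ⟨y, ⟨g, e⟩, h⟩
    have e' : (φ g).g = y.g := e
    have e1 : ∀ w, (io (jv w)).g = 1 := fun _ => pe_zero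
    have hy : φ (u (jv (y.v - (φ g).v)) * g) = y := by
      rw [map_mul, hj]
      refine AF.ext ?_ (by rw [AF.mul_g, e1, one_mul, e'])
      rw [AF.mul_v, e1, gone]
      exact sub_add_cancel _ _
    refine ⟨u (jv (y.v - (φ g).v)) * g, fun s hs => hi ?_⟩
    rw [map_mul, map_mul, map_inv, hy]
    show y * φ (u (β s)) * y⁻¹ = φ (u (β (f s)))
    rw [hβ, hβ, h s hs]

end Cfsg.Agent.C3F
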