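import Cfsg.Agent.C3F.Ab
import Cfsg.Agent.H92.ModelUniq
import Cfsg.Agent.H92.ModelLocal

set_option autoImplicit false
set_option linter.unusedSectionVars false

namespace Cfsg.Agent.C3F

open C3X FK Subgroup
open RFS (Au)
open SR3 (nm ce St cj)
open scoped commutatorElement

universe v

namespace Mod

open Cfsg Cfsg.FusionSystem H91 H92

/-- in a group of characteristic `p`, a normal `p`-subgroup that is self-centralizing in a Sylow subgroup is
self-centralizing -/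
theorem ce_le {L : Type*} [Group L] [Finite L] {p : ℕ} [Fact p.Prime] (T : Sylow p L)
    (hO : ce (pCore p L) ≤ pCore p L) {J : Subgroup L} [J.Normal] (h : (T : Subgroup L) ⊓ ce J ≤ J) :
    ce J ≤ J := by
  haveI := H91.pCore_normal p L
  have hT : pCore p L ≤ T := (H91.isPGroup_pCore p L).le_sylow_of_normal T
  obtain ⟨k, hk⟩ := IsPGroup.iff_card.1 (H91.isPGroup_pCore p L)
  have pw : ∀ x ∈ pCore p L, x ^ p ^ k = 1 := fun x hx => by
    have := pow_card_eq_one' (x := (⟨x, hx⟩ : pCore p L))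
    rw [hk] at this
    exact congrArg Subtype.val this
  have hn : (ce J).Normal := inferInstance
  have hp : IsPGroup p (ce J) := fun g => by
    have h1 : g.1 ^ p ^ k ∈ pCore p L := hO fun x hx => by
      have c1 : g.1 * x * g.1⁻¹ * x⁻¹ ∈ pCore p L :=
        mul_mem (Normal.conj_mem inferInstance x hx g.1) (inv_mem hx)
      have c2 : g.1 * x * g.1⁻¹ * x⁻¹ ∈ ce J := by
        have := mul_mem g.2 (hn.conj_mem _ (inv_mem g.2) x)
        simpa only [mul_assoc] using this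
      have c3 : Commute (g.1 * x * g.1⁻¹ * x⁻¹) g.1 := g.2 _ (h ⟨hT c1, c2⟩)
      have c4 : ∀ n : ℕ, g.1 ^ n * x = (g.1 * x * g.1⁻¹ * x⁻¹) ^ n * x * g.1 ^ n := fun n => by
        induction n with
        | zero => simp
        | succ n ih =>
          rw [pow_succ' g.1, mul_assoc, ih, ← mul_assoc, ← mul_assoc, ← (c3.pow_left n).eq, pow_succ _ n]
          group
      have := c4 (p ^ k)
      rw [pw _ c1, one_mul] at this
      exact this.symm
    exact ⟨k + k, Subtype.ext (by rw [pow_add, pow_mul]; exact pw _ h1)⟩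
  exact fun g hg => h ⟨hT (H91.le_pCore hn hp hg), hg⟩

theorem gen {H : Type*} {G : Type v} [Group H] [Group G] [Finite H] [Finite G] {p : ℕ} [Fact p.Prime]
    {u : H →* G} (h : Sat p u) {J : Subgroup H} (hn : ∀ s, Nm J s)
    (hc : ∀ s, (∀ j ∈ J, s * j = j * s) → s ∈ J) (hw : ∀ f, In u J f → ∀ j ∈ J, f j ∈ J) :
    ∃ (L : Type v) (_ : Group L) (_ : Finite L) (ι : H →* L), Function.Injective ι ∧
      ¬ p ∣ ι.range.index ∧ (J.map ι).Normal ∧ ce (J.map ι) ≤ J.map ι ∧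
      ∀ P, J ≤ P → ∀ f, In u P f ↔ In ι P f := by
  have hS : IsPGroup p u.range := h.pg.of_surjective _ u.rangeRestrict_surjective
  have hJS : J.map u ≤ u.range := map_le_range u J
  have hN : u.range ≤ nm (J.map u) := by
    rintro _ ⟨s, rfl⟩
    exact nm_of_ind (hn s) fun a _ => by simp
  have hW : (groupFusionSystem u.range).WeaklyClosed (J.map u) := weaklyClosed_iff.2 ⟨hJS, fun k hk => by
    refine hk.homOn.im_eq_self hk.injOn ?_
    obtain ⟨-, h1, g, hg⟩ := M_group_iff.1 hk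
    have e : ∀ a ∈ J, g * u a * g⁻¹ = u (Function.invFun u (k (u a))) := fun a ha => by
      rw [Function.invFun_eq (h1 _ ⟨a, ha, rfl⟩), hg _ ⟨a, ha, rfl⟩]
    rintro _ ⟨a, ha, rfl⟩
    exact ⟨_, hw _ ⟨g, e⟩ a ha, by rw [← e a ha, hg _ ⟨a, ha, rfl⟩]⟩⟩
  have hC : (groupFusionSystem u.range).IsCentric (J.map u) := ⟨hJS, fun Q hQ => by
    obtain ⟨k, hk, rfl⟩ := isConj_iff.1 hQ
    rw [hk.im_eq_of_weaklyClosed hW le_rfl]
    rintro _ ⟨⟨s, rfl⟩, hs⟩
    exact ⟨s, hc s fun j hj => h.inj (by rw [map_mul, map_mul]; exact (hs _ ⟨j, hj, rfl⟩).symm), rfl⟩⟩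
  have hE := normFS_isNormalizerSystem (F := groupFusionSystem u.range) hJS
  haveI : Finite (normalizerIn u.range (J.map u)) := inferInstance
  obtain ⟨L, _, i, hm⟩ := exists_model (hS.to_le (normalizerIn_le _ _))
    (normSys_constrained hS h.sat (fullyNormalized_of_weaklyClosed hW) hC hE)
  haveI := hm.1
  have mem : ∀ a, u a ∈ normalizerIn u.range (J.map u) := fun a => ⟨⟨a, rfl⟩, hN ⟨a, rfl⟩⟩
  let ι : H →* L := i.comp (u.codRestrict _ mem)
  have e : ∀ a, fn i (u a) = ι a := fun a => fn_of_mem i (mem a)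
  have hι : Function.Injective ι := fun a b k => h.inj (congrArg Subtype.val (hm.2.1.1 k))
  have hr : ι.range = i.range := le_antisymm (by rintro _ ⟨a, rfl⟩; exact ⟨_, rfl⟩) (by
    rintro _ ⟨⟨_, ⟨a, rfl⟩, _⟩, rfl⟩
    exact ⟨a, rfl⟩)
  have hJ : im (fn i) (J.map u) = J.map ι := le_antisymm (im_le_iff.2 (by
    rintro _ ⟨a, ha, rfl⟩
    exact ⟨a, ha, (e a).symm⟩)) (by
    rintro _ ⟨a, ha, rfl⟩
    exact e a ▸ mem_im_of_mem _ ⟨a, ha, rfl⟩)
  haveI hnor : (J.map ι).Normal := hJ ▸ model_normal hm (normSys_isNormal hJS hE)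
  obtain ⟨T, hT⟩ := hm.2.2.1
  refine ⟨L, _, hm.1, ι, hι, by rw [hr, ← hT]; exact T.not_dvd_index, hnor, ce_le T hm.2.2.2 ?_,
    fun P hP f => ⟨?_, ?_⟩⟩
  · rw [hT, ← hr]
    rintro _ ⟨⟨s, rfl⟩, hs⟩
    exact ⟨s, hc s fun j hj => hι (by rw [map_mul, map_mul]; exact (hs _ ⟨j, hj, rfl⟩).symm), rfl⟩
  · rintro ⟨g, hg⟩
    have hk : M (groupFusionSystem u.range) (P.map u) fun x => g * x * g⁻¹ :=
      M_group_iff.2 ⟨map_le_range u P, by
        rintro _ ⟨a, ha, rfl⟩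
        exact ⟨_, (hg a ha).symm⟩, g, fun _ _ => rfl⟩
    obtain ⟨y, hy⟩ := realized_exists hm.2.1 ((M_normFS hJS).2 (hk.toNM (map_mono hP)
      (hk.im_eq_of_weaklyClosed hW (map_mono hP)) le_rfl (by rintro _ ⟨a, -, rfl⟩; exact mem a)))
    refine ⟨y, fun a ha => ?_⟩
    rw [← e, ← e, ← hg a ha]
    exact (hy _ ⟨a, ha, rfl⟩).symm
  · rintro ⟨y, hy⟩
    obtain ⟨k, hk, ek⟩ := realized_conj hm.2.1 (P := P.map u) (g := y) (by rintro _ ⟨a, -, rfl⟩; exact mem a) (by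
      rintro _ ⟨a, ha, rfl⟩
      rw [e, hy a ha, ← hr]
      exact ⟨_, rfl⟩)
    obtain ⟨-, -, g, hg⟩ := M_group_iff.1 ((M_normFS hJS).1 hk).toM
    refine ⟨g, fun a ha => ?_⟩
    rw [← hg _ ⟨a, ha, rfl⟩]
    refine realized_inj hm.2.1 (hk.mem ⟨a, ha, rfl⟩) (mem _) ?_
    rw [ek _ ⟨a, ha, rfl⟩, e, e, hy a ha]

end Mod

variable {G : Type v} [Group G] [Finite G] {u : SS →* G}

/-- the model of the normalizer system of `sJ` -/
theorem model (h : Sat 3 u) : ∃ (L : Type v) (_ : Group L) (_ : Finite L) (ι : SS →* L), Function.Injective ι ∧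
    ¬ 3 ∣ ι.range.index ∧ (sJ.map ι).Normal ∧ ce (sJ.map ι) ≤ sJ.map ι ∧
    ∀ P, sJ ≤ P → ∀ f, In u P f ↔ In ι P f := by
  haveI : Fact (Nat.Prime 3) := ⟨by norm_num⟩
  exact Mod.gen h nm_J (fun _ => cen_J) fun _ => wJ h.inj le_rfl

end Cfsg.Agent.C3F
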