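import Cfsg.Agent.C3F.Ext
import Cfsg.Agent.C3F.Alp

set_option autoImplicit false
set_option linter.unusedSectionVars false

namespace Cfsg.Agent.C3F

open C3X FK Subgroup
open RFS (Au)
open SR3 (nm ce St cj)
open scoped commutatorElement

variable {G : Type*} [Group G] [Finite G] {u : SS →* G} {X : Subgroup GV} {f σ σ' : SS → SS}

namespace Nrm

theorem z_L : jv zv ∈ sL := ⟨rfl, rfl, rfl, rfl, rfl, rfl, rfl, rfl⟩

theorem L_W : sL ≤ sW := fun _ ⟨h0, h1, h2, _, h4, _, h6, h7⟩ => ⟨h0, h1, h2, h4, h6, h7⟩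

theorem W_J : sW ≤ sJ := fun _ ⟨h0, h1, h2, _⟩ => ⟨h0, h1, h2⟩

theorem W_E : sW ≤ sE := fun _ h => h.2.2.2.2.2

theorem lin (n : NF u X) {E : Subgroup SS} (hJ : sJ ≤ E) (hf : In u E f) :
    ∃ x ∈ X, ∀ v, f (jv v) = jv (x v) := by
  obtain ⟨y, hy, e⟩ := (n.iff E hJ f).1 hf
  exact ⟨y.g, hy, fun v => io_inj (by rw [← e _ (hJ (jv_mem v)), conj_io_jv])⟩

end Nrm

theorem Good.essE (h : Good u) (ess : ∀ E L, Pr 3 u E L → sJ ≤ E ∨ E = sE) : EssE u := by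
  by_contra hn
  refine h.nJ (normal_of h.sat (fun f hf => (chr hf.au).1) fun E hE => ?_)
  rcases ess E _ (pr_of_ess h.sat hE) with hJ | rfl
  · exact ⟨hJ, fun f hf => wJ h.sat.inj hJ hf.ind⟩
  · obtain ⟨f, hf, hx⟩ := h.sat.not_ext hE nm_E
    refine absurd (ext_E h.sat hf fun s hs => ?_) hx
    by_contra hs'
    exact hn ⟨f, hf, s, hs, hs'⟩

theorem Good.mvL (h : Good u) (n : NF u X) (ess : ∀ E L, Pr 3 u E L → sJ ≤ E ∨ E = sE) : ∃ x ∈ X, ¬ FZ x := by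
  by_contra hn
  push Not at hn
  refine h.nL (normal_of h.sat (fun f hf => (chr hf.au).2.1) fun E hE => ?_)
  rcases ess E _ (pr_of_ess h.sat hE) with hJ | rfl
  · refine ⟨(Nrm.L_W.trans Nrm.W_J).trans hJ, fun f hf q hq => ?_⟩
    obtain ⟨x, hx, e⟩ := Nrm.lin n hJ hf.ind
    have hz : jv (x zv) ∈ sL := by
      rcases hn x hx with e' | e' <;> rw [e']
      · exact Nrm.z_L
      · exact jv_inv zv ▸ inv_mem Nrm.z_L
    rcases eq_z hq with rfl | rfl | rfl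
    · rw [← jv_zero, e, map_zero]; exact one_mem _
    · rw [e]; exact hz
    · rw [e, map_neg, ← jv_inv]; exact inv_mem hz
  · exact ⟨Nrm.L_W.trans Nrm.W_E, fun f hf => (au_E hf.au).1⟩

theorem Good.mvW (h : Good u) (n : NF u X) (ess : ∀ E L, Pr 3 u E L → sJ ≤ E ∨ E = sE) : ∃ x ∈ X, ¬ FA x := by
  by_contra hn
  push Not at hn
  refine h.nW (normal_of h.sat (fun f hf => (chr hf.au).2.2) fun E hE => ?_)
  rcases ess E _ (pr_of_ess h.sat hE) with hJ | rfl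
  · refine ⟨Nrm.W_J.trans hJ, fun f hf q hq => ?_⟩
    obtain ⟨x, hx, e⟩ := Nrm.lin n hJ hf.ind
    rw [eq_jv (Nrm.W_J hq), e]
    exact ⟨rfl, rfl, rfl, hn x hx q.v hq.2.2.2⟩
  · exact ⟨Nrm.W_E, fun f hf => (au_E hf.au).2.1⟩

theorem re_idx {G : Type} [Group G] {ι : SS →* G} (h : Re ι) : ¬ 3 ∣ ι.range.index := by
  intro hd
  apply h.syl
  rw [← ι.range.card_mul_index, ← Nat.card_congr (MonoidHom.ofInjective h.inj).toEquiv, card_SS, pow_succ]
  exact Nat.mul_dvd_mul_left _ hd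

theorem re_good {G : Type} [Group G] {ι : SS →* G} (h : Re ι) : Good ι := by
  have := h.fin
  obtain ⟨v, hv, c⟩ := h.top
  refine ⟨sat_of_syl three_SS h.inj (re_idx h), fun hN => ?_, fun hN => ?_, fun hN => ?_⟩
  · exact one_ne_zero (sc_of_normal h.inj hN (jv_mem _) h.out).2.2
  · exact hv (Nrm.W_E (Nrm.L_W (sc_of_normal h.inj hN Nrm.z_L c)))
  · exact hv (Nrm.W_E (sc_of_normal h.inj hN (Nrm.L_W Nrm.z_L) c))

theorem good_of_core (h : Sat 3 u) (hc : (groupFusionSystem u.range).core = ⊥) : Good u := by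
  have key : ∀ Q : Subgroup SS, jv zv ∈ Q → ¬ (groupFusionSystem u.range).IsNormal (Q.map u) := fun Q hQ hN => by
    have := H91.le_core hN (⟨_, hQ, rfl⟩ : u (jv zv) ∈ Q.map u)
    rw [hc, mem_bot, ← map_one u] at this
    exact zv_ne (jv_inj ((h.inj this).trans jv_zero.symm))
  exact ⟨h, key _ (jv_mem _), key _ Nrm.z_L, key _ (Nrm.L_W Nrm.z_L)⟩

end Cfsg.Agent.C3F
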