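import Cfsg.Agent.C3F.Defs
import Cfsg.Agent.C3X.KB2
import Cfsg.Agent.C3X.NrmB

set_option autoImplicit false
set_option linter.unusedSectionVars false

namespace Cfsg.Agent.C3F

open C3X FK Subgroup
open RFS (Au)
open SR3 (nm ce St cj)
open scoped commutatorElement

variable {G : Type*} [Group G] [Finite G] {u : SS →* G} {X : Subgroup GV} {f σ σ' : SS → SS}

/-- the normalizer of `PP` is triangular with diagonal in the torus -/
theorem nP_tor {x : GV} (hx : x ∈ normalizer (PP : Set GV)) : ∃ α β σ, ∀ (k : ℕ) (v : V),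
    (∀ i : Fin 6, k < i.val → v i = 0) → ∀ i : Fin 6, k ≤ i.val → x v i = tor α β σ v i := by
  obtain ⟨α, β, σ, h⟩ := C3X.NrmB.exists_un hx
  refine ⟨α, β, σ, fun k v hv i hi => ?_⟩
  have e : x v = (x * tor α β σ) (tor α β σ v) := by
    rw [gmul, tor_apply, tor_apply, tf_tf]
  have z : ∀ j : Fin 6, i.val < j.val → tor α β σ v j = 0 := fun j hj => by
    have k0 := hv j (by omega)
    have k1 : ∃ c, tor α β σ v j = c * v j := by fin_cases j <;> exact ⟨_, rfl⟩
    obtain ⟨c, k1⟩ := k1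
    rw [k1, k0, mul_zero]
  obtain ⟨a5, k5⟩ := h (tor α β σ v)
  rw [e]
  fin_cases i
  · exact (((k5 (z 5 (by decide))).2 (z 4 (by decide))).2.2 (z 3 (by decide)) (z 2 (by decide))).2
      (z 1 (by decide))
  · exact (((k5 (z 5 (by decide))).2 (z 4 (by decide))).2.2 (z 3 (by decide)) (z 2 (by decide))).1
  · exact ((k5 (z 5 (by decide))).2 (z 4 (by decide))).2.1
  · exact ((k5 (z 5 (by decide))).2 (z 4 (by decide))).1
  · exact (k5 (z 5 (by decide))).1
  · exact a5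

theorem exists_HB (h : Hyp X) : ∃ n ∈ normalizer (PP : Set GV), ∃ Y : Subgroup GV,
    (∀ g, g ∈ Y ↔ n * g * n⁻¹ ∈ X) ∧ HB Y := by
  obtain ⟨θ, hθ, k⟩ := hb_norm h
  exact ⟨θ⁻¹, inv_mem hθ, cjX θ X, fun g => by rw [mem_cjX, inv_inv], k⟩

end Cfsg.Agent.C3F
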