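import Cfsg.Agent.C3F.Ab

set_option autoImplicit false
set_option linter.unusedSectionVars false

namespace Cfsg.Agent.C3F

open C3X FK Subgroup
open RFS (Au)
open SR3 (nm ce St cj)
open scoped commutatorElement

variable {G : Type*} [Group G] [Finite G] {u : SS →* G} {X : Subgroup GV} {f σ σ' : SS → SS}

namespace Sw1A

/-- conjugation by a multiple of `33` -/
def gm (m : F) (s : SS) : SS := jv (Pi.single 5 m) * s * (jv (Pi.single 5 m))⁻¹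

theorem fa_gm (u : SS →* G) (m : F) : Fa u sE (gm m) := Fa.conj u _ (nm_E _)

theorem gm_eq (m : F) (s : SS) :
    gm m s = jv (Pi.single 5 m - pe s.a s.b s.c (Pi.single 5 m)) * s := by
  rw [gm, jv_inv, mul_assoc, mul_jv, ← mul_assoc, jv_mul, map_neg, sub_eq_add_neg]

theorem gm_J (m : F) {s : SS} (hs : s ∈ sJ) : gm m s = s := by
  rw [gm, comm_J (jv_mem _) hs, mul_inv_cancel_right]

theorem gm_gm (m : F) (s : SS) : gm m (gm (-m) s) = s := by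
  rw [gm, gm, Pi.single_neg, ← jv_inv]
  group

theorem gm_a (m : F) (s : SS) : (gm m s).a = s.a := by
  rw [gm_eq]; exact zero_add _

theorem gm_b (m : F) (s : SS) : (gm m s).b = s.b := by
  rw [gm_eq]; exact zero_add _

theorem gm_c (m : F) (s : SS) : (gm m s).c = s.c := by
  rw [gm_eq, mul_c]; simp [jv]

theorem gm_v (m : F) (s : SS) : (gm m s).v = Pi.single 5 m - pe s.a s.b s.c (Pi.single 5 m) + s.v := by
  rw [gm_eq, mul_v]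
  exact congrArg _ (pf_zero _)

theorem gm_2 (m : F) (s : SS) : (gm m s).v 2 = s.v 2 - m * s.c := by
  rw [gm_v]; simp; ring

theorem gm_4 (m : F) (s : SS) : (gm m s).v 4 = s.v 4 - m * s.b := by
  rw [gm_v]; simp; ring

theorem gm_H (m : F) (s : SS) : gm m s * s⁻¹ ∈ sH := by
  rw [gm_eq, mul_inv_cancel_right]
  exact ⟨rfl, rfl, rfl, by simp [jv]⟩

theorem exists_f1 (h : EssE u) : ∃ f, Fa u sE f ∧ (∀ s ∈ sH, f s ∈ sK 0) ∧ ∀ t ∈ sK 0, ∃ s ∈ sH, f s = t := by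
  obtain ⟨f, hf, s0, h0, h0'⟩ := h
  obtain ⟨k, h1, h2⟩ := (au_E hf.au).2.2.2.resolve_left fun c => h0' (c s0 h0)
  refine ⟨_, (fa_gm u k).comp hf, fun s hs => sub_self k ▸ conj_K (h1 s hs), fun t ht => ?_⟩
  obtain ⟨s, hs, e⟩ := h2 (gm (-k) t) (by simpa only [gm, zero_sub, neg_neg] using conj_K (m := -k) ht)
  exact ⟨s, hs, by rw [e, gm_gm]⟩

/-- the shape of a transvection with parameter `ε` -/
structure Tr (ε : F) (τ : SS → SS) : Prop where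
  w : ∀ s ∈ sW, τ s = s
  a : ∀ s ∈ sE, (τ s).a = s.a
  r : ∀ s ∈ sR, (τ s).v 2 = s.v 2 ∧ (τ s).v 4 = s.v 4 ∧ (τ s).c = s.c + ε * s.v 2 ∧ (τ s).b = s.b + ε * s.v 4

theorem shape {τ : SS → SS} (h : Au sE τ) (h1 : ∀ t ∈ sK 0, τ t = t) (h2 : ∀ s ∈ sE, τ s * s⁻¹ ∈ sK 0) :
    ∃ ε, Tr ε τ := by
  have ha : ∀ s ∈ sE, (τ s).a = s.a := fun s hs => by
    have k := (h2 s hs).1
    rw [mul_a, inv_a] at k
    linear_combination k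
  have hR : ∀ s ∈ sR, τ s ∈ sR := fun s hs => ⟨(ha s hs.2).trans hs.1, h.mem s hs.2⟩
  have hv : ∀ s ∈ sR, (τ s).v 2 = s.v 2 ∧ (τ s).v 4 = s.v 4 := fun s hs => by
    obtain ⟨k0, -, k2, k4⟩ := h2 s hs.2
    have e : τ s = τ s * s⁻¹ * s := by group
    generalize τ s * s⁻¹ = κ at k0 k2 k4 e
    rw [e, mul_v, Pi.add_apply, Pi.add_apply, ← pe_apply, pe2, pe4, k0, k2, k4, hs.2]
    exact ⟨by ring, by ring⟩
  have HR : ∀ s ∈ sH, s ∈ sR := fun s hs => ⟨hs.1, hs.2.2.2⟩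
  have hc := fun x (hx : x ∈ sH) y (hy : y ∈ sH) => Ab.cm (hR x (HR x hx)) (hR y (HR y hy)) (by
    rw [← h.mul _ hx.2.2.2 _ hy.2.2.2, ← h.mul _ hy.2.2.2 _ hx.2.2.2,
      comm_J ⟨hx.1, hx.2.1, hx.2.2.1⟩ ⟨hy.1, hy.2.1, hy.2.2.1⟩])
  have m2 : jv ![0, 0, 1, 0, 0, 0] ∈ sH := ⟨rfl, rfl, rfl, rfl⟩
  have m4 : jv ![0, 0, 0, 0, 1, 0] ∈ sH := ⟨rfl, rfl, rfl, rfl⟩
  have p2 : (τ (jv ![0, 0, 1, 0, 0, 0])).v 2 = 1 := (hv _ (HR _ m2)).1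
  have p4 : (τ (jv ![0, 0, 1, 0, 0, 0])).v 4 = 0 := (hv _ (HR _ m2)).2
  have q2 : (τ (jv ![0, 0, 0, 0, 1, 0])).v 2 = 0 := (hv _ (HR _ m4)).1
  have q4 : (τ (jv ![0, 0, 0, 0, 1, 0])).v 4 = 1 := (hv _ (HR _ m4)).2
  have e := (hc _ m2 _ m4).2.1
  rw [p2, p4, q2, q4] at e
  refine ⟨(τ (jv ![0, 0, 1, 0, 0, 0])).c, fun s hs => h1 s (Ab.W_le_K 0 hs), ha, fun s hs =>
    ⟨(hv s hs).1, (hv s hs).2, ?_⟩⟩
  have m : jv s.v ∈ sH := ⟨rfl, rfl, rfl, hs.2⟩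
  have k1 := (hc _ m _ m2).1
  have k2 := (hc _ m _ m4).2.2
  rw [p2, (hv _ (HR _ m)).1] at k1
  rw [q4, (hv _ (HR _ m)).2] at k2
  have d : τ s = τ (jv s.v) * pv 0 s.b s.c := by
    rw [← h1 _ (Ab.pv_mem s.b s.c), ← h.mul _ m.2.2.2 _ (Ab.pv_mem _ _).2.1, ← hs.1, ← jv_pv]
  rw [d, mul_c, mul_b, (hR _ (HR _ m)).1]
  change (τ (jv s.v)).c * 1 = _ * s.v 2 at k1
  change (τ (jv s.v)).b * 1 = _ * s.v 4 at k2
  exact ⟨by change _ + s.c + 0 * s.b = _; linear_combination k1,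
    by change _ + s.b = _; linear_combination k2 - s.v 4 * e⟩

theorem exists_tr (h : EssE u) : ∃ τ ε, ε ≠ 0 ∧ Fa u sE τ ∧ Tr ε τ := by
  obtain ⟨f, hf, h1, h2⟩ := exists_f1 h
  obtain ⟨g, hg, e1, e2⟩ := hf.exists_inv
  have hτ := hf.comp ((fa_gm u 1).comp hg)
  have k : ∀ s ∈ sE, f (gm 1 (g (f s))) * (f s)⁻¹ = f (gm 1 s * s⁻¹) := fun s hs => by
    rw [e1 s hs, hf.au.mul _ ((fa_gm u 1).au.mem s hs) _ (inv_mem hs), hf.au.map_inv hs]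
  have k' : ∀ s ∈ sE, f (gm 1 (g s)) * s⁻¹ ∈ sK 0 := fun s hs => by
    obtain ⟨s', hs', rfl⟩ := hf.au.sur s hs
    rw [k s' hs']
    exact h1 _ (gm_H 1 s')
  obtain ⟨ε, t⟩ := shape hτ.au (fun t ht => by
    obtain ⟨s, hs, rfl⟩ := h2 t ht
    rw [e1 s hs.2.2.2, gm_J 1 ⟨hs.1, hs.2.1, hs.2.2.1⟩]) k'
  refine ⟨_, ε, fun e => ?_, hτ, t⟩
  have m : pv 0 0 1 ∈ sR := ⟨rfl, rfl⟩
  have m' := (au_E hf.au).2.2.1 _ m
  obtain ⟨-, -, rc, rb⟩ := t.r _ m'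
  obtain ⟨k0, k5, k2, k4⟩ := k' _ m'.2
  have w : f (gm 1 (g (f (pv 0 0 1)))) * (f (pv 0 0 1))⁻¹ ∈ sW := by
    refine ⟨k0, ?_, ?_, k2.trans (zero_mul _), k4.trans (zero_mul _), k5⟩
    · rw [mul_b, inv_b, rb, e]; ring
    · rw [mul_c, inv_c, inv_b, rc, t.a _ m'.2, m'.1, e]; ring
  have w' := (au_E hg.au).2.1 _ w
  rw [k _ m.2, e1 _ (gm_H 1 _).2.2.2, gm_eq, mul_inv_cancel_right] at w'
  exact absurd w'.2.2.2.1 (by decide)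

end Sw1A

open Sw1A

/-- the opposite transvection -/
theorem EssE.low (h : EssE u) : ∃ τ, Fa u sE τ ∧ (∀ s ∈ sW, τ s = s) ∧ (∀ s ∈ sE, (τ s).a = s.a) ∧
    ∀ s ∈ sR, (τ s).v 2 = s.v 2 ∧ (τ s).v 4 = s.v 4 ∧ (τ s).c = s.c + s.v 2 ∧ (τ s).b = s.b + s.v 4 := by
  obtain ⟨τ, ε, h0, hτ, t⟩ := exists_tr h
  rcases f3 ε with rfl | rfl | rfl
  · exact absurd rfl h0
  · exact ⟨τ, hτ, t.w, t.a, fun s hs => by simpa using t.r s hs⟩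
  · refine ⟨_, hτ.comp hτ, fun s hs => by rw [t.w s hs, t.w s hs],
      fun s hs => (t.a _ (hτ.au.mem s hs)).trans (t.a s hs), fun s hs => ?_⟩
    obtain ⟨a1, a2, a3, a4⟩ := t.r s hs
    obtain ⟨b1, b2, b3, b4⟩ := t.r (τ s) ⟨(t.a s hs.2).trans hs.1, hτ.au.mem s hs.2⟩
    exact ⟨b1.trans a1, b2.trans a2, by linear_combination b3 + a3 - a1 - s.v 2 * three,
      by linear_combination b4 + a4 - a2 - s.v 4 * three⟩

theorem EssE.sw1 (h : EssE u) : ∃ σ, Fa u sE σ ∧ Sw1 σ := by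
  obtain ⟨τ, hτ, w, a, r⟩ := h.low
  have g := fa_gm u 1
  refine ⟨_, g.comp (hτ.comp g), fun s hs => ?_, fun s hs => ?_, fun s hs => ?_⟩
  · have m : s ∈ sJ := ⟨hs.1, hs.2.1, hs.2.2.1⟩
    rw [gm_J 1 m, w s hs, gm_J 1 m]
  · rw [gm_a, a _ (g.au.mem s hs), gm_a]
  · obtain ⟨a1, a2, a3, a4⟩ := r (gm 1 s) ⟨(gm_a 1 s).trans hs.1, g.au.mem s hs.2⟩
    rw [gm_2, gm_4, gm_c, gm_b, a1, a2, a3, a4, gm_2, gm_4, gm_c, gm_b]
    exact ⟨by ring, by ring, by ring, by ring⟩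

end Cfsg.Agent.C3F
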