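import Cfsg.Agent.C3F.Ext

set_option autoImplicit false
set_option linter.unusedSectionVars false

namespace Cfsg.Agent.C3F

open C3X FK Subgroup
open RFS (Au)
open SR3 (nm ce St cj)
open scoped commutatorElement

variable {G : Type*} [Group G] [Finite G] {u : SS →* G} {X : Subgroup GV} {f σ σ' : SS → SS}

namespace SwN

attribute [local simp] mul_v mul_a mul_b mul_c inv_v inv_a inv_b inv_c one_v one_a one_b one_c

theorem pf_eq (a b c : F) (v : V) : pf a b c v = pe a b c v := rfl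

attribute [local simp] pf_eq

theorem pv_rho : rho (pv 1 0 0) = pv 1 0 0 := SS.ext (map_zero rr) rfl rfl rfl

theorem pv_cube : pv 1 0 0 * pv 1 0 0 * pv 1 0 0 = 1 := SS.ext (by simp [pv]) rfl rfl rfl

/-- `rho` as a homomorphism -/
def rh : SS →* SS := MonoidHom.mk' rho rho_mul

theorem rho_conj (r s : SS) : rho (r * s * r⁻¹) = rho r * rho s * (rho r)⁻¹ := by
  have := map_inv rh r
  rw [rho_mul, rho_mul]
  exact congrArg _ this

theorem rho0 (s : SS) : (rho s).v 0 = s.v 0 := by simp [rho, rr, sg]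
theorem rho1 (s : SS) : (rho s).v 1 = s.v 1 := by simp [rho, rr, sg]
theorem rho2 (s : SS) : (rho s).v 2 = -s.v 2 := by simp [rho, rr, sg]
theorem rho3 (s : SS) : (rho s).v 3 = s.v 3 := by simp [rho, rr, sg]
theorem rho4 (s : SS) : (rho s).v 4 = -s.v 4 := by simp [rho, rr, sg]
theorem rho5 (s : SS) : (rho s).v 5 = s.v 5 := by simp [rho, rr, sg]

theorem rho_W {s : SS} (h : s ∈ sW) : rho s = s := by
  obtain ⟨-, h1, h2, h3, h4, -⟩ := h
  exact SS.ext (v_ext (rho0 s) (rho1 s) (by rw [rho2, h3, neg_zero]) (rho3 s) (by rw [rho4, h4, neg_zero]) (rho5 s))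
    rfl (by simp [rho, h1]) (by simp [rho, h2])

theorem W_le {s : SS} (h : s ∈ sW) : s ∈ sR := ⟨h.1, h.2.2.2.2.2⟩

theorem div_W {x y : SS} (hx : x ∈ sR) (hy : y ∈ sR) (h2 : x.v 2 = y.v 2) (h4 : x.v 4 = y.v 4) (hc : x.c = y.c)
    (hb : x.b = y.b) : x * y⁻¹ ∈ sW := by
  obtain ⟨x1, x2⟩ := hx
  obtain ⟨y1, y2⟩ := hy
  rw [mem_sW]
  simp [x1, x2, y1, y2, h2, h4, hc, hb]

theorem conj (s : Sw1 σ) (hσ : ∀ t ∈ sE, σ t ∈ sE) {r : SS} (hr : r ∈ sR) : Sw1 fun t => r * σ t * r⁻¹ := by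
  refine ⟨fun t ht => by rw [s.w t ht, ← comm_W ht hr.1, mul_inv_cancel_right], fun t ht => ?_, fun t ht => ?_⟩
  · simp [s.a t ht]
  · obtain ⟨k1, k2, k3, k4⟩ := s.r t ht
    have k5 : (σ t).v 5 = 0 := hσ t ht.2
    have k6 : (σ t).a = 0 := (s.a t ht.2).trans ht.1
    rw [← k1, ← k2, ← k3, ← k4]
    simp [hr.1, hr.2, k5, k6]

theorem neg_self {k : F} (h : -k = k) : k = 0 := by revert k; decide

theorem fix {p : SS} (h5 : p ∈ sE) (ha : p.a = 1) (hr : rho p = p) (h3 : p * p * p = 1) :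
    ∃ j ∈ sW, j * p * j⁻¹ = pv 1 0 0 := by
  have h2 : p.v 2 = 0 := neg_self ((rho2 p).symm.trans (by rw [hr]))
  have h4 : p.v 4 = 0 := neg_self ((rho4 p).symm.trans (by rw [hr]))
  have hb : p.b = 0 := neg_self (congrArg SS.b hr)
  have hc : p.c = 0 := neg_self (congrArg SS.c hr)
  rw [mem_sE] at h5
  have k := congrFun (congrArg SS.v h3) 0
  simp [h2, h4, h5, ha, hb, hc] at k
  have k3 : p.v 3 = 0 := by linear_combination 2 * k - (2 * p.v 0 + 4 * p.v 1 + 3 * p.v 3) * three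
  obtain ⟨w, w0, w1, w2, w3, w4, w5⟩ : ∃ w : V, w 0 = 0 ∧ w 1 = p.v 1 - p.v 0 ∧ w 2 = 0 ∧ w 3 = p.v 1 ∧ w 4 = 0 ∧
    w 5 = 0 := ⟨![0, p.v 1 - p.v 0, 0, p.v 1, 0, 0], rfl, rfl, rfl, rfl, rfl, rfl⟩
  refine ⟨jv w, ⟨rfl, rfl, rfl, w2, w4, w5⟩, SS.ext (v_ext ?_ ?_ ?_ ?_ ?_ ?_) ?_ ?_ ?_⟩ <;>
    simp [jv, pv, h2, h4, h5, ha, hb, hc, k3, w0, w1, w2, w3, w4, w5]
  linear_combination (p.v 0 - p.v 1) * three

end SwN

open SwN in
theorem sw_of (h : Sat 3 u) (hr : Fa u sE rho) (hσ : Fa u sE σ) (s : Sw1 σ) : ∃ σ', Fa u sE σ' ∧ Sw σ' := by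
  obtain ⟨τ, hτ, e1, e2⟩ := hσ.exists_inv
  have mr := hr.au.mem
  have ta : ∀ t ∈ sE, (τ t).a = t.a := fun t ht => by rw [← s.a _ (hτ.au.mem t ht), e2 t ht]
  obtain ⟨r, hR, k⟩ := inn_E h (hσ.comp (hr.comp (hτ.comp hr))) (fun t ht => by
      have : τ t = t := by rw [← s.w t ht, e1 t (W_le ht).2, s.w t ht]
      rw [rho_W ht, this, rho_W ht, s.w t ht]) (fun t ht => by
      have m1 := hτ.au.mem _ (mr t ht.2)
      have m2 : τ (rho t) ∈ sR := ⟨(ta _ (mr t ht.2)).trans ht.1, m1⟩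
      have m3 : rho (τ (rho t)) ∈ sR := ⟨m2.1, mr _ m1⟩
      obtain ⟨a1, a2, a3, a4⟩ := s.r _ m2
      obtain ⟨b1, b2, b3, b4⟩ := s.r _ m3
      rw [e2 _ (mr t ht.2)] at a1 a2 a3 a4
      rw [rho2] at a1 b3
      rw [rho4] at a2 b4
      refine div_W ⟨(s.a _ m3.2).trans m3.1, hσ.au.mem _ m3.2⟩ ht ?_ ?_ ?_ ?_
      · exact b1.trans ((neg_neg _).trans (neg_inj.1 a1).symm)
      · exact b2.trans ((neg_neg _).trans (neg_inj.1 a2).symm)
      · rw [b3, ← a3]; exact neg_neg _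
      · rw [b4, ← a4]; exact neg_neg _) fun t ht => by
    have m1 := hτ.au.mem _ (mr t ht)
    refine ⟨?_, mul_mem (hσ.au.mem _ (mr _ m1)) (inv_mem ht)⟩
    rw [mul_a, inv_a, s.a _ (mr _ m1)]
    exact add_neg_eq_zero.2 (ta _ (mr t ht))
  have A : ∀ t ∈ sE, σ (rho t) = r * rho (σ t) * r⁻¹ := fun t ht => by
    rw [← k _ (mr _ (hσ.au.mem t ht)), rho_rho, e1 t ht]
  have B : ∀ t ∈ sE, rho r * t * (rho r)⁻¹ = r⁻¹ * t * r := fun t ht => by
    have := A _ (mr _ (hτ.au.mem t ht))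
    rw [rho_rho, A _ (hτ.au.mem t ht), rho_conj, rho_rho, e2 t ht] at this
    conv_rhs => rw [this]
    group
  have r3 : r * r = r⁻¹ := eq_inv_of_mul_eq_one_left (by rw [← cube_R hR, pow_succ, pow_two])
  have f2 := (Fa.conj u r (nm_E r)).comp hσ
  have s2 := conj s hσ.au.mem hR
  have c2 : ∀ t ∈ sE, r * σ (rho t) * r⁻¹ = rho (r * σ t * r⁻¹) := fun t ht => by
    rw [A t ht, rho_conj, B _ (mr _ (hσ.au.mem t ht))]
    calc _ = (r * r) * rho (σ t) * (r * r)⁻¹ := by group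
      _ = _ := by rw [r3, inv_inv]
  have m : pv 1 0 0 ∈ sE := rfl
  obtain ⟨j, hj, e⟩ := fix (f2.au.mem _ m) (s2.a _ m) (by
      rw [← c2 _ m, pv_rho]) (by
    have := f2.au.one
    rw [← pv_cube, f2.au.mul _ (mul_mem m m) _ m,
      f2.au.mul _ m _ m] at this
    exact this.trans pv_cube)
  exact ⟨_, (Fa.conj u j (nm_E j)).comp f2, conj s2 f2.au.mem (W_le hj), fun t ht => by
    rw [rho_conj j, rho_W hj, c2 t ht], e⟩

end Cfsg.Agent.C3F
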