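import Cfsg.Agent.C3F.Ext

set_option autoImplicit false
set_option linter.unusedSectionVars false

namespace Cfsg.Agent.C3F

open C3X FK Subgroup
open RFS (Au)
open SR3 (nm ce St cj)
open scoped commutatorElement

variable {G : Type*} [Group G] [Finite G] {u : SS →* G} {X : Subgroup GV} {f σ σ' : SS → SS}

theorem NF.top (h : NF u X) (hf : Fa u ⊤ f) : ∃ y : AF, y.g ∈ X ∧ y.g ∈ normalizer (PP : Set GV) ∧
    ∀ s, y * io s * y⁻¹ = io (f s) := by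
  obtain ⟨y, hy, e⟩ := (h.iff ⊤ le_top f).1 hf.ind
  have : Finite (PP : Set GV) := Nat.finite_of_card_ne_zero (card_PP.trans_ne (by norm_num))
  refine ⟨y, hy, mem_normalizer_fintype ?_, fun s => e s trivial⟩
  rintro _ ⟨a, b, c, rfl⟩
  exact ⟨_, _, _, congrArg AF.g (e (pv a b c) trivial)⟩

theorem NF.rr_mem (h : NF u X) (hb : HB X) (hσ : Fa u sE σ) (s : Sw1 σ) : rr ∈ X := by
  have m : ∀ r ∈ sR, σ r ∈ sR := fun r hr => ⟨(s.a r hr.2).trans hr.1, hσ.au.mem r hr.2⟩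
  obtain ⟨F, hF, e⟩ := ext_E h.sat (hσ.comp hσ) fun r hr => by
    have hR : r ∈ sR := ⟨hr.1, hr.2.2.2⟩
    obtain ⟨a1, a2, -, -⟩ := s.r r hR
    obtain ⟨-, -, b3, b4⟩ := s.r _ (m r hR)
    exact ⟨(m _ (m r hR)).1, by rw [b4, a2, hr.2.1, neg_zero], by rw [b3, a1, hr.2.2.1, neg_zero], (m _ (m r hR)).2⟩
  obtain ⟨y, hy, hn, k⟩ := h.top hF
  obtain ⟨a, b, c, α, β, t, eg⟩ := hb _ hy hn
  have key : ∀ v : V, v 5 = 0 → (σ (σ (jv v))).v = pe a b c (tor α β t v) := fun v hv => by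
    have := io_inj ((conj_io_jv y v).symm.trans (k (jv v)))
    rw [e _ hv, eg] at this
    exact congrArg SS.v this.symm
  have w : ∀ v : V, jv v ∈ sW → v = pe a b c (tor α β t v) := fun v hv => by
    have := key v hv.2.2.2.2.2
    rwa [s.w _ hv, s.w _ hv] at this
  have h0 := congrFun (w zv ⟨rfl, rfl, rfl, rfl, rfl, rfl⟩) 0
  have h1 := congrFun (w ![0, 1, 0, 0, 0, 0] ⟨rfl, rfl, rfl, rfl, rfl, rfl⟩) 1
  have hR : jv ![0, 0, 1, 0, 0, 0] ∈ sR := ⟨rfl, rfl⟩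
  have h2 := congrFun (key ![0, 0, 1, 0, 0, 0] rfl) 2
  rw [(s.r _ (m _ hR)).1, (s.r _ hR).2.2.1] at h2
  simp [zv, jv] at h0 h1 h2
  have : α = false ∧ β = true ∧ t = false := by
    revert h0 h1 h2
    generalize α = α', β = β', t = t'
    revert α' β' t'
    decide
  obtain ⟨rfl, rfl, rfl⟩ := this
  have := mul_mem (inv_mem (h.hyp.le (pe_mem a b c))) hy
  rwa [eg, inv_mul_cancel_left] at this

theorem NF.fa_rho (h : NF u X) (hr : rr ∈ X) : Fa u sE rho := by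
  exact ⟨au_rho, In.mono ((h.iff ⊤ le_top rho).2 ⟨⟨0, rr⟩, hr, fun s _ => rho_io s⟩) le_top⟩

end Cfsg.Agent.C3F
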