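import Cfsg.Agent.C3F.Ext

set_option autoImplicit false
set_option linter.unusedSectionVars false

namespace Cfsg.Agent.C3F

open C3X FK Subgroup
open RFS (Au)
open SR3 (nm ce St cj)
open scoped commutatorElement

variable {G : Type*} [Group G] [Finite G] {u : SS →* G} {X : Subgroup GV} {f σ σ' : SS → SS}

namespace SwU

theorem det {x : SS} (ha : x.a = 0) (h5 : x.v 5 = 0) (h : rho x = x⁻¹) :
    x.v 0 = x.c * x.v 2 ∧ x.v 1 = -(x.b * x.v 2 + x.c * x.v 4) ∧ x.v 3 = x.b * x.v 4 := by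
  have h0 := congrFun (congrArg SS.v h) 0
  have h1 := congrFun (congrArg SS.v h) 1
  have h3 := congrFun (congrArg SS.v h) 3
  simp [rho, rr, sg, inv_v, pf, ha, h5] at h0 h1 h3
  refine ⟨?_, ?_, ?_⟩
  · linear_combination (-1) * h0 + (x.v 0 - x.c * x.v 2) * three
  · linear_combination (-1) * h1 + x.v 1 * three
  · linear_combination (-1) * h3 + (x.v 3 - x.b * x.v 4) * three

theorem inv_eq (a : Au sE σ) (a' : Au sE σ') (s : Sw σ) (s' : Sw σ') {r : SS} (hr : r ∈ sR) (h : rho r = r⁻¹) :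
    σ r = σ' r := by
  have hE : r ∈ sE := hr.2
  have x0 : (σ r).a = 0 := (s.a r hE).trans hr.1
  have y0 : (σ' r).a = 0 := (s'.a r hE).trans hr.1
  obtain ⟨x1, x2, x3⟩ := det x0 (a.mem r hE) (by rw [← s.rho r hE, h, a.map_inv hE])
  obtain ⟨y1, y2, y3⟩ := det y0 (a'.mem r hE) (by rw [← s'.rho r hE, h, a'.map_inv hE])
  obtain ⟨p1, p2, p3, p4⟩ := s.r r hr
  obtain ⟨q1, q2, q3, q4⟩ := s'.r r hr
  refine SS.ext (v_ext ?_ ?_ (p1.trans q1.symm) ?_ (p2.trans q2.symm) ((a.mem r hE).trans (a'.mem r hE).symm))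
    (x0.trans y0.symm) (p4.trans q4.symm) (p3.trans q3.symm)
  · rw [x1, y1, p1, p3, q1, q3]
  · rw [x2, y2, p1, p2, p3, p4, q1, q2, q3, q4]
  · rw [x3, y3, p2, p4, q2, q4]

end SwU

open SwU

theorem Sw.uniq (a : Au sE σ) (a' : Au sE σ') (s : Sw σ) (s' : Sw σ') : ∀ x ∈ sE, σ x = σ' x := by
  intro x hx
  have m : ∀ y ∈ sE, ∀ z ∈ sE, σ y = σ' y → σ z = σ' z → σ (y * z) = σ' (y * z) := fun y hy z hz e e' => by
    rw [a.mul y hy z hz, a'.mul y hy z hz, e, e']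
  have e : x = jv ![x.v 0, x.v 1, 0, x.v 3, 0, 0] * jv ![0, 0, x.v 2, 0, x.v 4, 0] * pv 0 x.b x.c * pv x.a 0 0 := by
    refine SS.ext (v_ext ?_ ?_ ?_ ?_ ?_ ?_) ?_ ?_ ?_ <;> simp [mul_v, mul_a, mul_b, mul_c, jv, pv, pf, mem_sE.1 hx]
  have w1 : jv ![x.v 0, x.v 1, 0, x.v 3, 0, 0] ∈ sW := ⟨rfl, rfl, rfl, rfl, rfl, rfl⟩
  have w2 : jv ![0, 0, x.v 2, 0, x.v 4, 0] ∈ sR := ⟨rfl, rfl⟩
  have w3 : pv 0 x.b x.c ∈ sR := ⟨rfl, rfl⟩
  have w4 : ∀ k, pv k 0 0 ∈ sE := fun _ => rfl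
  have e1 : jv ![x.v 0, x.v 1, 0, x.v 3, 0, 0] ∈ sE := w1.2.2.2.2.2
  rw [e]
  refine m _ (mul_mem (mul_mem e1 w2.2) w3.2) _ (w4 _) (m _ (mul_mem e1 w2.2) _ w3.2 (m _ e1 _ w2.2
    ((s.w _ w1).trans (s'.w _ w1).symm) (inv_eq a a' s s' w2 ?_)) (inv_eq a a' s s' w3 ?_)) ?_
  · refine SS.ext (v_ext ?_ ?_ ?_ ?_ ?_ ?_) ?_ ?_ ?_ <;> simp [C3F.rho, rr, sg, inv_v, inv_a, inv_b, inv_c, jv, pf]
  · refine SS.ext (v_ext ?_ ?_ ?_ ?_ ?_ ?_) ?_ ?_ ?_ <;> simp [C3F.rho, rr, sg, inv_v, inv_a, inv_b, inv_c, pv, pf]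
  · obtain k | k | k := f3 x.a <;> rw [k]
    · exact a.one.trans a'.one.symm
    · exact s.pa.trans s'.pa.symm
    · rw [show pv (-1) 0 0 = (pv 1 0 0)⁻¹ from SS.ext (by decide) (by decide) (by decide) (by decide),
        a.map_inv (w4 1), a'.map_inv (w4 1), s.pa, s'.pa]

theorem onE {G' : Type*} [Group G'] {u' : SS →* G'} (h : Sat 3 u) (h0 : ∀ f, Fa u ⊤ f → In u' ⊤ f)
    (hσ : Fa u sE σ) (hσ' : Fa u' sE σ') (s : Sw σ) (s' : Sw σ') (hf : Fa u sE f) : In u' sE f := by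
  have key : ∀ g, Fa u sE g → (∀ x ∈ sH, g x ∈ sH) → In u' sE g := fun g hg k =>
    let ⟨F, hF, e⟩ := ext_E h hg k
    ((h0 F hF).mono le_top).congr e
  obtain k | ⟨k, hk, -⟩ := (au_E hf.au).2.2.2
  · exact key f hf k
  have hj := Fa.conj u (A := sE) (jv (Pi.single 5 k)) (nm_E _)
  have hg := hσ.comp (hj.comp hf)
  obtain ⟨τ, hτ, i1, -⟩ := hσ'.exists_inv
  refine ((In.conj u' ⊤ (jv (Pi.single 5 k))⁻¹).comp (hτ.ind.comp (key _ hg fun x hx => ?_) hg.au.mem)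
    fun _ _ => trivial).congr fun x hx => ?_
  · obtain ⟨t0, t1, t2, t3⟩ := conj_K (m := k) (hk x hx)
    rw [sub_self, zero_mul] at t2 t3
    obtain ⟨-, -, p3, p4⟩ := s.r _ ⟨t0, t1⟩
    exact ⟨(s.a _ t1).trans t0, p4.trans t3, p3.trans t2, hσ.au.mem _ t1⟩
  · have t := (hj.comp hf).au.mem x hx
    rw [Sw.uniq hσ.au hσ'.au s s' _ t, i1 _ t]; group

end Cfsg.Agent.C3F
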