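import Cfsg.Agent.C3F.Ab

set_option autoImplicit false
set_option linter.unusedSectionVars false

namespace Cfsg.Agent.C3F

open C3X FK Subgroup
open RFS (Au)
open SR3 (nm ce St cj)
open scoped commutatorElement

variable {G : Type*} [Group G] [Finite G] {u : SS →* G} {X : Subgroup GV} {f σ σ' : SS → SS}

namespace Tw

theorem in_iff {H G' : Type*} [Group H] [Group G'] (u' : H →* G') (β : H ≃* H) (P : Subgroup H) (f : H → H) :
    In (u'.comp β.toMonoidHom) P f ↔ In u' (P.map β.toMonoidHom) fun a => β (f (β.symm a)) :=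
  exists_congr fun _ => ⟨by rintro k _ ⟨a, ha, rfl⟩; simpa using k a ha,
    fun k a ha => by simpa using k _ ⟨a, ha, rfl⟩⟩

theorem map_eq {Q : Subgroup SS} (h : ∀ f, Au ⊤ f → ∀ s ∈ Q, f s ∈ Q) (β : SS ≃* SS) :
    Q.map β.toMonoidHom = Q :=
  le_antisymm (by rintro _ ⟨a, ha, rfl⟩; exact h _ (.equiv β) a ha) fun a ha =>
    ⟨_, h _ (.equiv β.symm) a ha, β.apply_symm_apply a⟩

theorem le_map (β : SS ≃* SS) {P : Subgroup SS} (hP : sJ ≤ P) : sJ ≤ P.map β.toMonoidHom :=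
  (map_eq (fun _ h => (chr h).1) β).ge.trans (map_mono hP)

theorem z_cases (β : SS ≃* SS) : β (jv zv) = jv zv ∨ β (jv zv) = jv (-zv) :=
  (eq_z ((chr (.equiv β)).2.1 (jv zv) ⟨rfl, rfl, rfl, rfl, rfl, rfl, rfl, rfl⟩)).resolve_left fun e =>
    absurd (β.map_eq_one_iff.1 e) (by decide)

theorem conj_inv {x y : G} : IsConj x⁻¹ y ↔ IsConj x y⁻¹ := by
  simp only [isConj_iff]
  exact exists_congr fun c => by rw [← _root_.conj_inv, inv_eq_iff_eq_inv]

end Tw

theorem mo_tw {G' : Type*} [Group G'] {u' : SS →* G'} (h : ∀ P, sJ ≤ P → ∀ f, In u P f ↔ In u' P f) (β : SS ≃* SS) :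
    ∀ P, sJ ≤ P → ∀ f, In (u.comp β.toMonoidHom) P f ↔ In (u'.comp β.toMonoidHom) P f := fun P hP f => by
  rw [Tw.in_iff, Tw.in_iff, h _ (Tw.le_map β hP)]

theorem Good.tw (h : Good u) (β : SS ≃* SS) : Good (u.comp β.toMonoidHom) := by
  refine ⟨h.sat.tw β, ?_, ?_, ?_⟩ <;> rw [range_tw, ← map_map, Tw.map_eq]
  exacts [h.nJ, fun _ k => (chr k).1, h.nL, fun _ k => (chr k).2.1, h.nW, fun _ k => (chr k).2.2]

theorem NF.tw (h : NF u X) {n : GV} (hn : n ∈ normalizer (PP : Set GV)) {Y : Subgroup GV}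
    (hY : ∀ g, g ∈ Y ↔ n * g * n⁻¹ ∈ X) : ∃ β : SS ≃* SS, NF (u.comp β.toMonoidHom) Y := by
  let N : AF := ⟨0, n⟩
  have k : ∀ s : SS, ∃ t, io t = N * io s * N⁻¹ := fun s => by
    obtain ⟨a, b, c, e⟩ := (mem_normalizer_iff.1 hn _).1 ⟨s.a, s.b, s.c, rfl⟩
    exact ⟨⟨(N * io s * N⁻¹).v, a, b, c⟩, AF.ext rfl e.symm⟩
  choose b hb using k
  have bi : Function.Injective b := fun s t e => io_inj
    (mul_left_cancel (mul_right_cancel ((hb s).symm.trans ((congrArg io e).trans (hb t)))))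
  let β : SS ≃* SS := MulEquiv.ofBijective (MonoidHom.mk' b fun s t => io_inj (by
    rw [map_mul, hb, hb, hb, map_mul]; group)) ⟨bi, Finite.surjective_of_injective bi⟩
  have hβ : ∀ s, io (β s) = N * io s * N⁻¹ := hb
  refine ⟨β, h.sat.tw β, ⟨fun g hg => (hY g).2 (h.hyp.le ((mem_normalizer_iff.1 hn g).1 hg)), ?_⟩, fun P hP f => ?_⟩
  · rw [Nat.card_congr (Equiv.subtypeEquiv (MulAut.conj n).toEquiv hY)]
    exact h.hyp.syl
  rw [Tw.in_iff, h.iff _ (Tw.le_map β hP)]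
  constructor
  · rintro ⟨y, hy, e⟩
    refine ⟨N⁻¹ * y * N, (hY _).2 ?_, fun s hs => ?_⟩
    · convert hy using 1
      change n * (n⁻¹ * y.g * n) * n⁻¹ = y.g
      group
    · have : y * io (β s) * y⁻¹ = io (β (f (β.symm (β s)))) := e _ ⟨s, hs, rfl⟩
      rw [β.symm_apply_apply, hβ, hβ] at this
      rw [← MulAut.conj_apply N (io (f s)), ← MulEquiv.symm_apply_eq] at this
      rw [← this, MulAut.conj_symm_apply]
      group
  · rintro ⟨y, hy, e⟩
    refine ⟨N * y * N⁻¹, (hY _).1 hy, ?_⟩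
    rintro _ ⟨s, hs, rfl⟩
    change _ * io (β s) * _ = io (β (f (β.symm (β s))))
    rw [β.symm_apply_apply, hβ, hβ, ← e s hs]
    group

theorem T1_tw (β : SS ≃* SS) : T1 (u.comp β.toMonoidHom) ↔ T1 u := by
  change IsConj (u (β (jv zv))) (u (β (jv (-zv)))) ↔ IsConj (u (jv zv)) (u (jv (-zv)))
  rw [← jv_inv, map_inv β]
  rcases Tw.z_cases β with e | e <;> rw [e]
  rw [← jv_inv, inv_inv, isConj_comm]

theorem T2_tw (β : SS ≃* SS) : T2 (u.comp β.toMonoidHom) ↔ T2 u := by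
  have k : ∀ v, β (jv v) = jv (β (jv v)).v := fun v => eq_jv ((chr (.equiv β)).1 _ (jv_mem v))
  have i : Function.Injective fun v => (β (jv v)).v := fun v w e =>
    jv_inj (β.injective ((k v).trans ((congrArg jv e).trans (k w).symm)))
  have c : ∀ μ : V → V, Function.Injective μ → (∀ v, IsConj (u (β (jv zv))) (u (β (jv v))) ↔
      IsConj (u (jv zv)) (u (jv (μ v)))) → (T2 (u.comp β.toMonoidHom) ↔ T2 u) := fun μ hμ e => by
    rw [T2, T2, ← Set.ncard_preimage_of_injective_subset_range (s := {v : V | IsConj (u (jv zv)) (u (jv v))}) hμ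
      (by rw [(Finite.surjective_of_injective hμ).range_eq]; exact Set.subset_univ _)]
    exact iff_of_eq (congrArg (fun s : Set V => 28 ≤ s.ncard) (Set.ext e))
  rcases Tw.z_cases β with e | e
  · exact c _ i fun v => by rw [e, ← k]
  · exact c _ (neg_injective.comp i) fun v => by
      rw [e, Function.comp, ← jv_inv, ← jv_inv, ← k, map_inv, map_inv, Tw.conj_inv]

theorem ze_nm (m : F) : ze m ∈ normalizer (PP : Set GV) := by
  refine centralizer_le_normalizer _ ?_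
  rintro _ ⟨a, b, c, rfl⟩
  refine LinearEquiv.ext fun v => ?_
  change pf a b c (zf m v) = zf m (pf a b c v)
  refine v_ext ?_ ?_ ?_ ?_ ?_ ?_ <;> simp [pf, zf]
  ring

end Cfsg.Agent.C3F
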