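import Cfsg.Agent.C3F.Ab
import Cfsg.Agent.C3F.Alp
import Cfsg.Agent.C3X.Main

set_option autoImplicit false
set_option linter.unusedSectionVars false

namespace Cfsg.Agent.C3F

open C3X FK Subgroup
open RFS (Au)
open SR3 (nm ce St cj)
open scoped commutatorElement

variable {G : Type*} [Group G] [Finite G] {u : SS →* G} {X : Subgroup GV} {f σ σ' : SS → SS}

theorem NF.orb (h : NF u X) (v : V) : IsConj (u (jv zv)) (u (jv v)) ↔ ∃ x ∈ X, x zv = v := by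
  constructor
  · intro c
    have hz : jv zv ∈ sL := ⟨rfl, rfl, rfl, rfl, rfl, rfl, rfl, rfl⟩
    obtain ⟨f, hf, e⟩ := burn h.sat (cen_L.2 hz) c.symm
    have hJ : sJ ≤ centralizer {jv v} := fun j hj => mem_centralizer_singleton_iff.2 (comm_J hj (jv_mem v))
    obtain ⟨y, hy, k⟩ := (h.iff _ hJ f).1 hf
    have e2 := k _ (hJ (jv_mem v))
    rw [conj_io_jv, e] at e2
    exact ⟨y.g⁻¹, inv_mem hy, by rw [← jv_inj (io_inj e2), ginv]⟩
  · rintro ⟨x, hx, rfl⟩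
    obtain ⟨g, hg⟩ := (h.iff sJ le_rfl fun s => jv (x s.v)).2 ⟨⟨0, x⟩, hx, fun s hs => by
      conv_lhs => rw [eq_jv hs]
      exact conj_io_jv _ _⟩
    exact isConj_iff.2 ⟨g, hg _ (jv_mem zv)⟩

namespace Typ

theorem pf_sq (a b c : F) (w : Fin 3 → F) :
    pf a b c (sq3 w) = sq3 ![w 0 + a * w 1 + c * w 2, w 1 + b * w 2, w 2] := by
  refine v_ext ?_ ?_ ?_ ?_ ?_ ?_ <;> simp [pf, sq3] <;> ring

theorem ya_sq (w : Fin 3 → F) : yaf 1 (sq3 w) = sq3 ![w 0, w 1 + w 0, w 2] := by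
  refine v_ext ?_ ?_ ?_ ?_ ?_ ?_ <;> simp [yaf, sq3] <;> ring

theorem yb_sq (w : Fin 3 → F) : ybf 1 (sq3 w) = sq3 ![w 0, w 1, w 2 + w 1] := by
  refine v_ext ?_ ?_ ?_ ?_ ?_ ?_ <;> simp [ybf, sq3] <;> ring

theorem sqs {t : Bool} {x : GV} (hx : x ∈ XX 0 t) :
    ∀ w, ∃ w', x (sq3 w) = sq3 w' ∨ (t = true ∧ x (sq3 w) = -sq3 w') := by
  have hx' : x ∈ (XX 0 t).toSubmonoid := hx
  rw [XX, closure_toSubmonoid_of_finite] at hx'
  clear hx
  induction hx' using Submonoid.closure_induction with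
  | mem g hg =>
    intro w
    rcases hg with rfl | rfl | rfl | rfl | rfl
    · exact ⟨_, Or.inl (pf_sq ..)⟩
    · exact ⟨_, Or.inl (pf_sq ..)⟩
    · exact ⟨_, Or.inl (by rw [ya_apply, neg_zero, Om0.zf0, Om0.zf0, ya_sq])⟩
    · exact ⟨_, Or.inl (by rw [yb_apply, neg_zero, Om0.zf0, Om0.zf0, yb_sq])⟩
    · cases t
      · exact ⟨w, Or.inl (by rw [tor_one, gone])⟩
      · exact ⟨w, Or.inr ⟨rfl, tau_apply _⟩⟩
  | one => exact fun w => ⟨w, Or.inl rfl⟩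
  | mul a b _ _ ha hb =>
    intro w
    obtain ⟨w1, h1⟩ := hb w
    obtain ⟨w2, h2⟩ := ha w1
    refine ⟨w2, ?_⟩
    rw [gmul]
    rcases h1 with h1 | ⟨ht, h1⟩ <;> rw [h1]
    · exact h2
    · rw [map_neg]
      rcases h2 with h2 | ⟨-, h2⟩ <;> rw [h2]
      · exact Or.inr ⟨ht, rfl⟩
      · exact Or.inl (neg_neg _)

theorem zv_sq : zv = sq3 ![1, 0, 0] := by decide

theorem big {w : V} (h : IsConj (u (jv zv)) (u (jv w)))
    (hc : (insert zv (Finset.univ.image fun p : F × F × F => pf p.1 p.2.1 p.2.2 w)).card = 28) : T2 u := by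
  rw [T2, ← hc, ← Set.ncard_coe_finset]
  refine Set.ncard_le_ncard (fun v hv => ?_) (Set.toFinite _)
  rcases Finset.mem_insert.1 hv with rfl | hv
  · exact IsConj.refl _
  · obtain ⟨⟨a, b, c⟩, -, rfl⟩ := Finset.mem_image.1 hv
    refine h.trans (isConj_iff.2 ⟨u (pv a b c), ?_⟩)
    rw [← map_inv, ← map_mul, ← map_mul, conj_jv]
    rfl

end Typ

theorem NF.t1 {l : F} {t : Bool} (h : NF u (XX l t)) (ty : Ty l t) : T1 u ↔ t = true := by
  rw [T1, h.orb]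
  constructor
  · rintro ⟨x, hx, e⟩
    rcases ty with rfl | ⟨-, ht⟩
    · obtain ⟨w, k | k⟩ := Typ.sqs hx ![1, 0, 0]
      · rw [← Typ.zv_sq, e] at k
        have k0 : (-1 : F) = w 0 * w 0 := congrFun k 0
        exact absurd k0 ((by decide : ∀ a : F, (-1 : F) ≠ a * a) _)
      · exact k.1
    · exact ht
  · rintro rfl
    exact ⟨tau, subset_closure (by simp [tau]), tau_apply _⟩

theorem not_T2 (h : ∀ v, IsConj (u (jv zv)) (u (jv v)) → ∃ w, v = sq3 w ∨ v = -sq3 w) : ¬ T2 u := by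
  have hc : ((Finset.univ.image fun p : F × F × F => sq3 ![p.1, p.2.1, p.2.2]) ∪
      Finset.univ.image fun p : F × F × F => -sq3 ![p.1, p.2.1, p.2.2]).card = 27 := by decide +kernel
  rw [T2, not_le, Nat.lt_succ_iff, ← hc, ← Set.ncard_coe_finset]
  refine Set.ncard_le_ncard (fun v hv => ?_) (Set.toFinite _)
  obtain ⟨w, k⟩ := h v hv
  refine Finset.mem_union.2 (k.imp (fun k => ?_) fun k => ?_) <;>
    exact Finset.mem_image.2 ⟨(w 0, w 1, w 2), Finset.mem_univ _, k.symm⟩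

theorem NF.t2 {l : F} {t : Bool} (h : NF u (XX l t)) (ty : Ty l t) : T2 u ↔ l = 1 := by
  rcases ty with rfl | ⟨rfl, rfl⟩
  · refine iff_of_false (not_T2 fun v hv => ?_) (by decide)
    obtain ⟨x, hx, rfl⟩ := (h.orb v).1 hv
    obtain ⟨w, k⟩ := Typ.sqs hx ![1, 0, 0]
    rw [← Typ.zv_sq] at k
    exact ⟨w, k.imp_right And.right⟩
  · have ha : ya 1 ∈ XX 1 true := subset_closure (by simp)
    have hb : yb 0 ∈ XX 1 true := subset_closure (by simp)
    refine iff_of_true (Typ.big (w := ![1, 1, 1, 0, 2, 1])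
      ((h.orb _).2 ⟨_, mul_mem ha (mul_mem hb ha), ?_⟩) (by decide +kernel)) rfl
    rw [gmul, gmul, ya_apply, yb_apply, ya_apply]
    decide

theorem T2_of (h : IsConj (u (jv zv)) (u (jv ![0, 0, 0, 1, 0, 1]))) : T2 u :=
  Typ.big h (by decide +kernel)

end Cfsg.Agent.C3F
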