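import Cfsg.Agent.C3F.B0
import Cfsg.Agent.C3F.B2b
import Cfsg.Agent.C3F.B3a
import Cfsg.Agent.C3F.B3b
import Cfsg.Agent.C3F.Mod
import Cfsg.Agent.C3F.Gas
import Cfsg.Agent.C3F.Tw
import Cfsg.Agent.C3F.NrmB
import Cfsg.Agent.C3F.Sw1
import Cfsg.Agent.C3F.SwR
import Cfsg.Agent.C3F.SwN
import Cfsg.Agent.C3F.SwU
import Cfsg.Agent.C3F.Nrm
import Cfsg.Agent.C3F.Typ
import Cfsg.Agent.C3X.SpA
import Cfsg.Agent.C3X.SpB
import Cfsg.Agent.C3X.Co

/-! Project C3F: the main theorem.  See `notes/C3F.md`. -/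

set_option autoImplicit false
set_option linter.unusedSectionVars false

namespace Cfsg.Agent.C3F

open C3X FK Subgroup

variable {G : Type*} [Group G] [Finite G] {u : SS →* G}

theorem main_ess (E : Subgroup SS) (L : Subgroup G) (h : Pr 3 u E L) : sJ ≤ E ∨ E = sE := by
  refine or_iff_not_imp_left.2 fun hJ => ?_
  obtain ⟨𝒟, c⟩ := C3F.cfg h hJ
  obtain ⟨D, hD⟩ := c.ne
  rcases c.cases hD with e | ⟨e, ha, y, h1, h2, h3⟩
  · exact c.caseH e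
  · exact (c.caseW hD e ha h1 h2 h3).elim

/-- the final normal form -/
structure Fin (u : SS →* G) (l : F) (t : Bool) : Prop where
  ty : Ty l t
  nf : NF u (XX l t)
  sw : ∃ σ, Fa u sE σ ∧ Sw σ

theorem main_nf (h : Sat 3 u) : ∃ (β : SS ≃* SS) (X : Subgroup GV), NF (u.comp β.toMonoidHom) X := by
  obtain ⟨L, _, _, ι, h1, h2, h3, h4, h5⟩ := C3F.model h
  obtain ⟨β, X, hX, e⟩ := C3F.gas h1 h2 h3 h4
  exact ⟨β, X, h.tw β, hX, fun P hP f => (C3F.mo_tw h5 β P hP f).trans (e P f)⟩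

theorem main_fin (h : Good u) : ∃ (β : SS ≃* SS) (l : F) (t : Bool), Fin (u.comp β.toMonoidHom) l t := by
  obtain ⟨β₁, X₁, n₁⟩ := main_nf h.sat
  obtain ⟨n, hn, X₂, e₂, hb⟩ := C3F.exists_HB n₁.hyp
  obtain ⟨β₂, n₂⟩ := n₁.tw hn e₂
  have g₂ := (h.tw β₁).tw β₂
  obtain ⟨σ, hσ, s⟩ := (g₂.essE main_ess).sw1
  have hr := n₂.rr_mem hb hσ s
  obtain ⟨m, l, t, ty, e₃⟩ := C3X.main X₂ n₂.hyp hb hr (g₂.mvL n₂ main_ess) (g₂.mvW n₂ main_ess)
  obtain ⟨β₃, n₃⟩ := n₂.tw (C3F.ze_nm m) (Y := XX l t) fun g => by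
    rw [e₃, show (ze m)⁻¹ * (ze m * g * (ze m)⁻¹) * ze m = g by group]
  have hr₃ : rr ∈ XX l t := by
    have := (e₃ rr).1 hr
    rwa [mul_assoc, rr, ← ze_tor, inv_mul_cancel_left] at this
  obtain ⟨σ₃, hσ₃, s₃⟩ := ((g₂.tw β₃).essE main_ess).sw1
  exact ⟨β₃.trans (β₂.trans β₁), l, t, ty, n₃, C3F.sw_of n₃.sat (n₃.fa_rho hr₃) hσ₃ s₃⟩

theorem Fin.imp {G' : Type*} [Group G'] [Finite G'] {u' : SS →* G'} {l : F} {t : Bool} (h : Fin u l t)
    (h' : Fin u' l t) {P : Subgroup SS} {f : SS → SS} (hf : In u P f) : In u' P f := by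
  have k : ∀ E, sJ ≤ E → ∀ f, Fa u E f → In u' E f := fun E hE f hf =>
    (h'.nf.iff E hE f).2 ((h.nf.iff E hE f).1 hf.ind)
  obtain ⟨σ, a, s⟩ := h.sw
  obtain ⟨σ', a', s'⟩ := h'.sw
  refine C3F.uniq_of h.nf.sat (k ⊤ le_top) (fun E L p f hf => ?_) hf
  rcases main_ess E L p with e | rfl
  · exact k E e f hf
  · exact C3F.onE h.nf.sat (k ⊤ le_top) a a' s s' hf

theorem main_re {G : Type} [Group G] {ι : SS →* G} (h : Re ι) : ∃ (u : SS →* G) (l : F) (t : Bool),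
    Fin u l t ∧ ¬ 3 ∣ u.range.index ∧ (T1 ι ↔ t = true) ∧ (T2 ι ↔ l = 1) := by
  have := h.fin
  obtain ⟨β, l, t, k⟩ := main_fin (C3F.re_good h)
  exact ⟨_, l, t, k, by rw [range_tw]; exact C3F.re_idx h, (C3F.T1_tw β).symm.trans (k.nf.t1 k.ty),
    (C3F.T2_tw β).symm.trans (k.nf.t2 k.ty)⟩

theorem main_real {l : F} {t : Bool} (ty : Ty l t) : ∃ (G : Type) (_ : Group G) (_ : Finite G) (u : SS →* G),
    Fin u l t ∧ ¬ 3 ∣ u.range.index := by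
  rcases ty with rfl | ⟨rfl, rfl⟩
  · cases t
    · obtain ⟨G, _, ι, h, h1, h2⟩ := C3X.exists_sp
      have := h.fin
      obtain ⟨u, l, t, k, o, e1, e2⟩ := main_re h
      obtain rfl : t = false := Bool.eq_false_iff.2 fun e => h1 (e1.2 e)
      obtain rfl : l = 0 := k.ty.resolve_right fun e => Bool.noConfusion e.2
      exact ⟨G, _, this, u, k, o⟩
    · obtain ⟨G, _, ι, h, h1, h2⟩ := C3X.exists_gsp
      have := h.fin
      obtain ⟨u, l, t, k, o, e1, e2⟩ := main_re h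
      obtain rfl : t = true := e1.1 h1
      obtain rfl : l = 0 := k.ty.resolve_right fun e => C3F.not_T2 h2 (e2.2 e.1)
      exact ⟨G, _, this, u, k, o⟩
  · obtain ⟨ι, h, h1⟩ := C3X.exists_co
    have := h.fin
    obtain ⟨u, l, t, k, o, e1, e2⟩ := main_re h
    obtain rfl : l = 1 := e2.1 (C3F.T2_of h1)
    obtain rfl : t = true := (k.ty.resolve_left (by decide)).2
    exact ⟨_, _, this, u, k, o⟩

theorem main {Ω : Type*} [Group Ω] {S : Subgroup Ω} [Finite S] {𝓕 : FusionSystem S} {j : Ω → G} {k : G → Ω}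
    (i : H92.FIso 𝓕 (groupFusionSystem u.range) j k) (h : Good u) : 𝓕.IsRealizable 3 := by
  obtain ⟨β, l, t, f⟩ := main_fin h
  obtain ⟨G', _, _, u', f', o⟩ := main_real f.ty
  rw [← range_tw u β] at i
  exact realizable_of i f.nf.sat.inj f'.nf.sat.inj three_SS (fun _ _ => ⟨f.imp f', f'.imp f⟩) o

end Cfsg.Agent.C3F
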